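import Cfsg.Agent.Lib.Blocks.FreeAbelianCounts.Inertial
import Cfsg.Agent.Lib.Blocks.TameDefect.Central
import Cfsg.Agent.Lib.BrouePuig.Watanabe
import Cfsg.Agent.Lib.BrouePuig.FreeAbelian
import Cfsg.Agent.S4733

/-!
# Abelian defect groups of order eight

A block with such a defect group and one Brauer character does not have five characters.
-/

set_option autoImplicit false
set_option linter.unusedSectionVars false
set_option maxHeartbeats 1000000

namespace CfsgLib.Blocks.SmallCocentre

open Cfsg CfsgLib.Blocks CfsgLib.BrauerPairs CfsgLib.BrouePuig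
open CfsgLib.Blocks.FreeAbelianCounts (autP autP_apply card_autP exists_autP_of_mem)
open scoped Classical

universe u

/-- An automorphism of odd order of a group of order eight fixing three elements is trivial. -/
theorem eq_one_of_fixed {P : Type*} [Group P] [Finite P] (hP : Nat.card P = 8) {α : MulAut P}
    (hα : Odd (orderOf α)) {u w : P} (hu : u ≠ 1) (hw : w ≠ 1) (huw : u ≠ w) (hαu : α u = u)
    (hαw : α w = w) : α = 1 := by
  let F : Subgroup P := MonoidHom.eqLocus α.toMonoidHom (MonoidHom.id P)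
  have memF : ∀ x, x ∈ F ↔ α x = x := fun x => Iff.rfl
  have h3 : 3 ≤ Nat.card F := by
    haveI := Fintype.ofFinite F
    have h1 : ({1, ⟨u, hαu⟩, ⟨w, hαw⟩} : Finset F).card = 3 := by
      rw [Finset.card_insert_of_notMem, Finset.card_insert_of_notMem, Finset.card_singleton]
      · simp [Subtype.ext_iff, huw]
      · simp [Subtype.ext_iff, hu.symm, hw.symm]
    rw [Nat.card_eq_fintype_card, ← h1]
    exact Finset.card_le_univ _
  have hmul := F.card_mul_index
  rw [hP] at hmul
  have hdvd : F.index ∣ 8 := ⟨_, by rw [mul_comm]; exact hmul.symm⟩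
  have hi : F.index = 1 ∨ F.index = 2 := by
    have h8 : F.index ≤ 8 := Nat.le_of_dvd (by norm_num) hdvd
    have : 3 * F.index ≤ 8 := by rw [← hmul]; exact Nat.mul_le_mul_right _ h3
    have : F.index ≠ 0 := Subgroup.index_ne_zero_of_finite
    omega
  rcases hi with hi | hi
  · refine MulEquiv.ext fun x => (memF x).1 ?_
    rw [Subgroup.index_eq_one.1 hi]
    exact Subgroup.mem_top x
  refine MulEquiv.ext fun x => ?_
  by_contra hne
  have hx : x ∉ F := fun h => hne ((memF x).1 h)
  have hαx : α x ∉ F := fun h => hne (α.injective ((memF _).1 h))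
  set f := x⁻¹ * α x with hf
  have hfF : f ∈ F := (Subgroup.mul_mem_iff_of_index_two hi).2
    (iff_of_false (fun h => hx (F.inv_mem_iff.1 h)) hαx)
  have hfix : α f = f := (memF f).1 hfF
  have hpow : ∀ n : ℕ, (α ^ n) x = x * f ^ n := by
    intro n
    induction n with
    | zero => simp
    | succ n ih =>
      rw [pow_succ', MulAut.mul_apply, ih, map_mul, map_pow, hfix, pow_succ', ← mul_assoc]
      congr 1
      rw [hf, mul_inv_cancel_left]
  have h1 := hpow (orderOf α)
  rw [pow_orderOf_eq_one, MulAut.one_apply, eq_comm, mul_eq_left] at h1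
  have h2 : orderOf f ∣ 8 := hP ▸ orderOf_dvd_natCard f
  have hcop : Nat.Coprime (orderOf α) 8 := by
    rw [show (8 : ℕ) = 2 ^ 3 by norm_num]
    exact Nat.Coprime.pow_right _ ((Nat.coprime_two_right).2 hα)
  have hf1 : f = 1 := orderOf_eq_one_iff.1
    (Nat.eq_one_of_dvd_coprimes hcop (orderOf_dvd_of_pow_eq_one h1) h2)
  exact hne ((mul_eq_one_iff_inv_eq.1 hf1).symm.trans (inv_inv x))

variable {M : Ideal AlgInt} {G : Type u} [Group G] [Fintype G]
  {B : Set (IrrCharacter G)} {P : Subgroup G}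
  {c : Set (IrrCharacter (Subgroup.centralizer (P : Set G)))}

/-- The blocks below a nontrivial element of an abelian group of order eight have rank at most
three. -/
theorem blockRank_bel_le_three (hM : IsPModular 2 M) (hmax : IsMaximalBrauerPair 2 M B P c)
    (hab : ∀ x ∈ P, ∀ y ∈ P, x * y = y * x) (hP : Nat.card P = 8) {w : P} (hw : w ≠ 1) :
    blockRank 2 (bel hM hmax.1.1 w).2 ≤ 3 := by
  haveI : Fact (Nat.Prime 2) := ⟨Nat.prime_two⟩
  have hQP : Subgroup.zpowers (w : G) ≤ P := Subgroup.zpowers_le.2 w.2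
  have hnest := maximal_nested hM hmax hab hQP (bel_inducedIn hM hmax.1.1 hab w)
  have hb := hnest.1.2.1
  have hDb := isDefectGroup_of_isMaximal hM hnest
  have hwK : (w : G) ∈ cenZ (w : G) := mem_cenZ.2 rfl
  set z : cenZ (w : G) := ⟨(w : G), hwK⟩
  have hzc : z ∈ Subgroup.center (cenZ (w : G)) :=
    Subgroup.mem_center_iff.2 fun g => Subtype.ext (mem_cenZ.1 g.2)
  have hZle : Subgroup.zpowers z ≤ Subgroup.center (cenZ (w : G)) := Subgroup.zpowers_le.2 hzc
  haveI : (Subgroup.zpowers z).Normal := ⟨fun n hn g => by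
    rwa [Subgroup.mem_center_iff.1 (hZle hn) g, mul_inv_cancel_right]⟩
  have hPK : P ≤ cenZ (w : G) := le_centralizer_of_abelian hab hQP
  have hzP : z ∈ P.subgroupOf (cenZ (w : G)) := Subgroup.mem_subgroupOf.2 w.2
  have hPp : IsPGroup 2 (P.subgroupOf (cenZ (w : G))) := hnest.1.1.1
  have hZp : IsPGroup 2 (Subgroup.zpowers z) := hPp.to_le (Subgroup.zpowers_le.2 hzP)
  letI : Fintype (cenZ (w : G) ⧸ Subgroup.zpowers z) := Fintype.ofFinite _
  obtain ⟨bb, hbb, hrank, hDG⟩ := TameDefect.exists_quot_rank hM hZle hZp hb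
  have hDbb : IsDefectGroup 2 M bb
      ((P.subgroupOf (cenZ (w : G))).map (QuotientGroup.mk' (Subgroup.zpowers z))) := hDG _ hDb
  have hrank' : blockRank 2 (bel hM hmax.1.1 w).2 ≤ blockRank 2 bb := hrank
  have hcard : Nat.card (P.subgroupOf (cenZ (w : G))) = 8 :=
    (Nat.card_congr (Subgroup.subgroupOfEquivOfLe hPK).toEquiv).trans hP
  set π := QuotientGroup.mk' (Subgroup.zpowers z)
  have hmul : Nat.card ((P.subgroupOf (cenZ (w : G))).map π) * Nat.card (Subgroup.zpowers z) = 8 := by
    rw [← hcard, ← Subgroup.card_mul_index ((Subgroup.zpowers z).subgroupOf (P.subgroupOf (cenZ (w : G)))),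
      mul_comm, Nat.card_congr (Subgroup.subgroupOfEquivOfLe (Subgroup.zpowers_le.2 hzP)).toEquiv]
    congr 1
    rw [show (Subgroup.zpowers z).subgroupOf (P.subgroupOf (cenZ (w : G)))
        = (π.comp (P.subgroupOf (cenZ (w : G))).subtype).ker by
      rw [← MonoidHom.comap_ker, QuotientGroup.ker_mk']; rfl,
      Subgroup.index_ker, MonoidHom.range_comp, Subgroup.range_subtype]
  have hz2 : 2 ≤ Nat.card (Subgroup.zpowers z) := by
    haveI : Nontrivial (Subgroup.zpowers z) := (Subgroup.nontrivial_iff_ne_bot _).2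
      fun h => hw (Subtype.ext (congrArg (fun a : cenZ (w : G) => (a : G)) (Subgroup.zpowers_eq_bot.1 h : z = 1)))
    exact Finite.one_lt_card
  have h4 : 2 ^ blockDefect 2 bb ≤ 4 := by
    rw [← card_defectGroup hM hbb hDbb]
    nlinarith
  have hd : blockDefect 2 bb ≤ 2 := (Nat.pow_le_pow_iff_right (by norm_num)).1 (h4.trans (by norm_num))
  have hk := DefectBound.card_le_bound hM _ _ bb hbb rfl
  rw [if_pos hd] at hk
  obtain ⟨hle, -, hiff⟩ := Cfsg.Agent.S4733.result 2 M hM bb hbb
  by_contra hlt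
  have he : Nat.card bb = blockRank 2 bb := by omega
  rw [hiff.2 he, pow_zero] at hk
  omega

/-- An abelian defect group of order eight does not allow one Brauer character and five
characters. -/
theorem not_abelian_eight (hM : IsPModular 2 M) (hmax : IsMaximalBrauerPair 2 M B P c)
    (hab : ∀ x ∈ P, ∀ y ∈ P, x * y = y * x) (hP : Nat.card P = 8) (hl : blockRank 2 B = 1)
    (hk : Nat.card B = 5) : False := by
  haveI : Fact (Nat.Prime 2) := ⟨Nat.prime_two⟩
  let T := pairStab P c
  let C := Subgroup.centralizer (P : Set G)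
  let e := C.relIndex T
  have hCT : C ≤ T := centralizer_le_pairStab c
  have hodd : ¬ 2 ∣ e := not_dvd_relIndex hM hmax hab
  have hidx : e * Nat.card C = Nat.card T := by
    show C.relIndex T * Nat.card C = Nat.card T
    rw [Subgroup.relIndex, mul_comm,
      ← Nat.card_congr (Subgroup.subgroupOfEquivOfLe hCT).toEquiv, Subgroup.card_mul_index]
  let S : P → Subgroup G := fun w => T ⊓ Subgroup.centralizer ({(w : G)} : Set G)
  have hS : ∀ w g, g ∈ S w ↔ g ∈ T ∧ g * (w : G) * g⁻¹ = w := fun w g => by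
    simp only [S, Subgroup.mem_inf, Subgroup.mem_centralizer_singleton_iff, mul_inv_eq_iff_eq_mul]
  have hCS : ∀ w, C ≤ S w := fun w g hg => (hS w g).2 ⟨hCT hg, by
    rw [← Subgroup.mem_centralizer_iff.1 hg _ w.2, mul_inv_cancel_right]⟩
  -- two fixed elements
  have hfix : ∀ g ∈ T, ∀ u w : P, u ≠ 1 → w ≠ 1 → u ≠ w → g * (u : G) * g⁻¹ = u →
      g * (w : G) * g⁻¹ = w → g ∈ C := by
    intro g hg u w hu hw huw hgu hgw
    obtain ⟨α, hα⟩ := exists_autP_of_mem (c := c) hg
    have hord : Odd (orderOf (α : MulAut P)) := by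
      rw [← Nat.not_even_iff_odd, even_iff_two_dvd, Subgroup.orderOf_coe]
      intro h2
      exact hodd (by
        show 2 ∣ (Subgroup.centralizer (P : Set G)).relIndex (pairStab P c)
        rw [← card_autP]; exact h2.trans (orderOf_dvd_natCard α))
    have h1 := eq_one_of_fixed hP hord hu hw huw (Subtype.ext (by rw [hα, hgu]))
      (Subtype.ext (by rw [hα, hgw]))
    refine mem_centralizer_iff_conj.2 fun y hy => ?_
    rw [← hα ⟨y, hy⟩, h1, MulAut.one_apply]
  -- the counting formula
  have h := card_block_eq hM hmax hab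
  rw [hk] at h
  have hN : 5 * Nat.card T = ∑ w : P, Nat.card (S w) * blockRank 2 (bel hM hmax.1.1 w).2 := by
    exact_mod_cast h
  let Fx : Subgroup P :=
    { carrier := {w | ∀ t ∈ T, t * (w : G) * t⁻¹ = w}
      mul_mem' := fun {a b} ha hb t ht => by
        rw [Subgroup.coe_mul, show t * ((a : G) * b) * t⁻¹ = (t * a * t⁻¹) * (t * b * t⁻¹) by group,
          ha t ht, hb t ht]
      one_mem' := fun t _ => by simp
      inv_mem' := fun {a} ha t ht => by
        rw [Subgroup.coe_inv, show t * (a : G)⁻¹ * t⁻¹ = (t * a * t⁻¹)⁻¹ by group, ha t ht] }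
  have hSfix : ∀ w ∈ Fx, S w = T := fun w hw =>
    le_antisymm inf_le_left fun g hg => (hS w g).2 ⟨hg, hw g hg⟩
  have hlfix : ∀ w ∈ Fx, blockRank 2 (bel hM hmax.1.1 w).2 = 1 := fun w hw =>
    ((card_fixed hM hmax hab w hw (bel_inducedIn hM hmax.1.1 hab w)).1.symm.trans hl)
  by_cases hfree : ∀ w, w ∉ Fx → S w = C
  · -- every element is fixed or regular
    have hl1 : ∀ w, blockRank 2 (bel hM hmax.1.1 w).2 = 1 := by
      intro w
      by_cases hw : w ∈ Fx
      · exact hlfix w hw
      refine blockRank_eq_one_of_nilpotent hM ((nilpotent_nested_iff hM hmax hab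
        (Subgroup.zpowers_le.2 w.2) (bel_inducedIn hM hmax.1.1 hab w)).2 fun g hg hgQ => ?_)
        (maximal_nested hM hmax hab (Subgroup.zpowers_le.2 w.2) (bel_inducedIn hM hmax.1.1 hab w))
      have : g ∈ S w := (hS w g).2 ⟨hg, by
        rw [← Subgroup.mem_centralizer_iff.1 hgQ _ (Subgroup.mem_zpowers _), mul_inv_cancel_right]⟩
      rwa [hfree w hw] at this
    simp only [hl1, mul_one] at hN
    set F := Finset.univ.filter fun w => w ∈ Fx with hF
    have hFc : F.card = Nat.card Fx := by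
      rw [Nat.card_eq_fintype_card, Fintype.card_subtype]
    rw [← Finset.sum_filter_add_sum_filter_not Finset.univ (fun w => w ∈ Fx),
      Finset.sum_congr rfl (g := fun _ => Nat.card T) fun w hw => by
        rw [hSfix w (Finset.mem_filter.1 hw).2],
      Finset.sum_congr rfl (s₁ := Finset.univ.filter fun w => w ∉ Fx) (g := fun _ => Nat.card C)
        fun w hw => by rw [hfree w (Finset.mem_filter.1 hw).2],
      Finset.sum_const, Finset.sum_const, smul_eq_mul, smul_eq_mul, ← hF, hFc] at hN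
    have hsplit := Finset.card_filter_add_card_filter_not (s := (Finset.univ : Finset P)) (fun w => w ∈ Fx)
    rw [← hF, hFc, Finset.card_univ, Fintype.card_eq_nat_card, hP] at hsplit
    set f := Nat.card Fx
    set r := (Finset.univ.filter fun w => w ∉ Fx).card
    rw [← hidx] at hN
    have hmul : 5 * e = f * e + r := Nat.eq_of_mul_eq_mul_right (Nat.card_pos (α := C)) (by
      rw [add_mul, mul_assoc, mul_assoc]; exact hN)
    have hf8 : f ∣ 8 := hP ▸ Subgroup.card_subgroup_dvd_card Fx
    obtain ⟨j, hj, hfj⟩ := (Nat.dvd_prime_pow Nat.prime_two).1 (show f ∣ 2 ^ 3 by simpa using hf8)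
    interval_cases j <;> norm_num at hfj <;>
      rw [hfj] at hmul hsplit <;> omega
  push Not at hfree
  obtain ⟨w₀, hw₀, hS₀⟩ := hfree
  obtain ⟨g₀, hg₀, hg₀'⟩ := SetLike.not_le_iff_exists.1 fun hle : S w₀ ≤ C =>
    hS₀ (le_antisymm hle (hCS w₀))
  have hw₁ : w₀ ≠ 1 := fun h => hw₀ (h ▸ one_mem Fx)
  have hFx : ∀ u ∈ Fx, u = 1 := fun u hu => by
    by_contra hne
    obtain ⟨hgT, hgw⟩ := (hS w₀ g₀).1 hg₀
    exact hg₀' (hfix g₀ hgT u w₀ hne hw₁ (fun h => hw₀ (h ▸ hu)) (hu g₀ hgT) hgw)
  -- the orbits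
  letI : MulAction T P := MulAction.compHom P
    (P.normalizerMonoidHom.comp (Subgroup.inclusion (pairStab_le_normalizer c)))
  have hsmul : ∀ (t : T) (w : P), ((t • w : P) : G) = (t : G) * (w : G) * (t : G)⁻¹ := fun t w => rfl
  have hstab : ∀ w, MulAction.stabilizer T w = (S w).subgroupOf T := fun w => by
    ext t
    rw [MulAction.mem_stabilizer_iff, Subgroup.mem_subgroupOf, hS, Subtype.ext_iff, hsmul]
    exact ⟨fun h => ⟨t.2, h⟩, fun h => h.2⟩
  let orb : P → Finset P := fun w => (MulAction.orbit T w).toFinset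
  have horb : ∀ w, (orb w).card * Nat.card (S w) = Nat.card T := fun w => by
    have h1 := Subgroup.card_mul_index (MulAction.stabilizer T w)
    rw [MulAction.index_stabilizer, hstab,
      Nat.card_congr (Subgroup.subgroupOfEquivOfLe (inf_le_left : S w ≤ T)).toEquiv] at h1
    rw [← h1, mul_comm, Set.ncard_eq_toFinset_card']
  have hbig : ∀ w, w ≠ 1 → 3 ≤ (orb w).card ∧ ¬ 2 ∣ (orb w).card := by
    intro w hw
    have hdvd : (orb w).card ∣ e := by
      refine ⟨C.relIndex (S w), ?_⟩
      have h1 : C.relIndex (S w) * Nat.card C = Nat.card (S w) := by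
        rw [Subgroup.relIndex, mul_comm,
          ← Nat.card_congr (Subgroup.subgroupOfEquivOfLe (hCS w)).toEquiv, Subgroup.card_mul_index]
      refine Nat.eq_of_mul_eq_mul_right (Nat.card_pos (α := C)) ?_
      rw [hidx, mul_assoc, h1, horb]
    have h2 : ¬ 2 ∣ (orb w).card := fun h => hodd (h.trans hdvd)
    refine ⟨?_, h2⟩
    by_contra hlt
    have h1 : (orb w).card = 1 := by omega
    refine hw (hFx w fun t ht => ?_)
    obtain ⟨a, ha⟩ := Finset.card_eq_one.1 h1
    have m1 : w ∈ orb w := Set.mem_toFinset.2 (MulAction.mem_orbit_self w)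
    have m2 : (⟨t, ht⟩ : T) • w ∈ orb w := Set.mem_toFinset.2 (MulAction.mem_orbit _ _)
    rw [ha, Finset.mem_singleton] at m1 m2
    rw [← hsmul ⟨t, ht⟩ w, m2, ← m1]
  have hone : ∀ w, w ≠ 1 → ∀ v ∈ orb w, v ≠ 1 := fun w hw v hv h => by
    obtain ⟨t, rfl⟩ := Set.mem_toFinset.1 hv
    refine hw (Subtype.ext ?_)
    have h1 := congrArg Subtype.val h
    rw [hsmul, Subgroup.coe_one, mul_inv_eq_one, mul_eq_left] at h1
    exact h1
  have hdisj : ∀ v w, v ∉ orb w → Disjoint (orb w) (orb v) := fun v w hv => by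
    rw [Finset.disjoint_left]
    intro x hx hx'
    refine hv (Set.mem_toFinset.2 ?_)
    rw [← MulAction.orbit_eq_iff.2 (Set.mem_toFinset.1 hx), MulAction.orbit_eq_iff.2 (Set.mem_toFinset.1 hx')]
    exact MulAction.mem_orbit_self v
  set U := (Finset.univ : Finset P).erase 1 with hU
  have hU7 : U.card = 7 := by
    rw [hU, Finset.card_erase_of_mem (Finset.mem_univ _), Finset.card_univ, Fintype.card_eq_nat_card, hP]
  have hsub : ∀ w, w ≠ 1 → orb w ⊆ U := fun w hw v hv =>
    Finset.mem_erase.2 ⟨hone w hw v hv, Finset.mem_univ _⟩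
  have h7 : ∀ w, w ≠ 1 → (orb w).card = 7 := by
    intro w hw
    by_contra hne
    have hle : (orb w).card ≤ 7 := hU7 ▸ Finset.card_le_card (hsub w hw)
    obtain ⟨v, hvU, hv⟩ := Finset.exists_mem_notMem_of_card_lt_card
      (show (orb w).card < U.card by omega)
    have hv1 := (Finset.mem_erase.1 hvU).1
    obtain ⟨b1, o1⟩ := hbig w hw
    obtain ⟨b2, o2⟩ := hbig v hv1
    have h2 : (orb w ∪ orb v).card ≤ 7 := hU7 ▸ Finset.card_le_card (Finset.union_subset (hsub w hw) (hsub v hv1))
    rw [Finset.card_union_of_disjoint (hdisj v w hv)] at h2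
    obtain ⟨x, hxU, hx⟩ := Finset.exists_mem_notMem_of_card_lt_card
      (show (orb w ∪ orb v).card < U.card by
        rw [Finset.card_union_of_disjoint (hdisj v w hv)]; omega)
    rw [Finset.mem_union, not_or] at hx
    have hx1 := (Finset.mem_erase.1 hxU).1
    obtain ⟨b3, -⟩ := hbig x hx1
    have h3 : (orb w ∪ orb v ∪ orb x).card ≤ 7 := hU7 ▸ Finset.card_le_card
      (Finset.union_subset (Finset.union_subset (hsub w hw) (hsub v hv1)) (hsub x hx1))
    rw [Finset.card_union_of_disjoint (Finset.disjoint_union_left.2 ⟨hdisj x w hx.1, hdisj x v hx.2⟩),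
      Finset.card_union_of_disjoint (hdisj v w hv)] at h3
    omega
  rw [← Finset.sum_erase_add _ _ (Finset.mem_univ (1 : P)), ← hU, hSfix 1 (one_mem _),
    hlfix 1 (one_mem _), mul_one] at hN
  have hbound : 7 * ∑ w ∈ U, Nat.card (S w) * blockRank 2 (bel hM hmax.1.1 w).2
      ≤ ∑ _w ∈ U, Nat.card T * 3 := by
    rw [Finset.mul_sum]
    refine Finset.sum_le_sum fun w hw => ?_
    have hw1 := (Finset.mem_erase.1 hw).1
    rw [← mul_assoc, show 7 * Nat.card (S w) = Nat.card T from h7 w hw1 ▸ horb w]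
    exact Nat.mul_le_mul_left _ (blockRank_bel_le_three hM hmax hab hP hw1)
  rw [Finset.sum_const, hU7, smul_eq_mul] at hbound
  have : 0 < Nat.card T := Nat.card_pos
  omega

end CfsgLib.Blocks.SmallCocentre
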