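import Cfsg.Agent.Lib.Blocks.SmallCocentre.Singular
import Mathlib.Tactic.LinearCombination
import Mathlib.Tactic.Module
import Mathlib.Tactic.FieldSimp

/-!
# Bilinear products of a three-dimensional space into a three-dimensional space

Either some one-sided multiplication is bijective or the product is a twisted exterior product.
-/

set_option autoImplicit false
set_option linter.unusedSectionVars false
set_option maxHeartbeats 1000000

namespace CfsgLib.Blocks.SmallCocentre

open scoped Classical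

variable {k V W : Type*} [Field k] [AddCommGroup V] [Module k V] [AddCommGroup W] [Module k W]

theorem cubic_zero [Infinite k] {a b c d : k}
    (h : ∀ t : k, a + b * t + c * t ^ 2 + d * t ^ 3 = 0) : a = 0 ∧ b = 0 ∧ c = 0 ∧ d = 0 := by
  have hP : Polynomial.C a + Polynomial.C b * Polynomial.X + Polynomial.C c * Polynomial.X ^ 2
      + Polynomial.C d * Polynomial.X ^ 3 = 0 := Polynomial.funext fun t => by simpa using h t
  have h0 := congrArg (fun P => Polynomial.coeff P 0) hP
  have h1 := congrArg (fun P => Polynomial.coeff P 1) hP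
  have h2 := congrArg (fun P => Polynomial.coeff P 2) hP
  have h3 := congrArg (fun P => Polynomial.coeff P 3) hP
  simp [Polynomial.coeff_X, Polynomial.coeff_C] at h0 h1 h2 h3
  exact ⟨h0, h1, h2, h3⟩

theorem li_of_map {T : V →ₗ[k] W} {x y z : V} (hx : x ≠ 0) (hTx : T x = 0)
    (h : LinearIndependent k ![T y, T z]) : LinearIndependent k ![x, y, z] := by
  rw [Fintype.linearIndependent_iff]
  intro g hg
  simp only [Fin.sum_univ_three, Matrix.cons_val_zero, Matrix.cons_val_one, Matrix.cons_val] at hg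
  have h1 := congrArg T hg
  simp only [map_add, map_smul, hTx, smul_zero, zero_add, map_zero] at h1
  have h2 := Fintype.linearIndependent_iff.1 h ![g 1, g 2] (by simpa [Fin.sum_univ_two] using h1)
  have e1 : g 1 = 0 := h2 0
  have e2 : g 2 = 0 := h2 1
  rw [e1, e2, zero_smul, zero_smul, add_zero, add_zero] at hg
  intro i
  fin_cases i
  · exact (smul_eq_zero.1 hg).resolve_right hx
  · exact e1
  · exact e2

/-- A map that is not surjective has vanishing determinant on any three vectors. -/
theorem det_eq_zero (w : Module.Basis (Fin 3) k W) {T : V →ₗ[k] W} (hT : ¬ Function.Surjective T)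
    (v : Fin 3 → V) : w.det (fun i => T (v i)) = 0 := by
  by_contra h
  haveI := Module.Finite.of_basis w
  have h1 := (Module.Basis.is_basis_iff_det w).2 (isUnit_iff_ne_zero.2 h)
  exact hT (surjective_of_indep (Module.finrank_eq_card_basis w) h1.1 T fun i => ⟨v i, rfl⟩)

variable [FiniteDimensional k V] [FiniteDimensional k W]

theorem exists_basis_three (hW : Module.finrank k W = 3) {v : Fin 3 → W}
    (hv : LinearIndependent k v) : ∃ b : Module.Basis (Fin 3) k W, ∀ i, b i = v i :=
  ⟨basisOfLinearIndependentOfCardEqFinrank hv (by simp [hW]), fun i =>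
    congrFun (coe_basisOfLinearIndependentOfCardEqFinrank hv _) i⟩

/-- Either some multiplication is bijective or the product is a twisted exterior product. -/
theorem exists_three [Infinite k] (μ : V →ₗ[k] V →ₗ[k] W) (hV : Module.finrank k V = 3)
    (hW : Module.finrank k W = 3) (hl : ∀ v, μ v = 0 → v = 0) (hr : ∀ v, μ.flip v = 0 → v = 0)
    (hspan : ∀ L : Submodule k W, (∀ x y, μ x y ∈ L) → L = ⊤) :
    (∃ a, Function.Surjective (μ a)) ∨ (∃ a, Function.Surjective (μ.flip a)) ∨
      ∃ φ : V ≃ₗ[k] V, ∀ x, μ x (φ x) = 0 := by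
  by_cases hL : ∃ a, Function.Surjective (μ a)
  · exact Or.inl hL
  by_cases hR : ∃ a, Function.Surjective (μ.flip a)
  · exact Or.inr (Or.inl hR)
  push Not at hL hR
  refine Or.inr (Or.inr ?_)
  have hle : ∀ T : V →ₗ[k] W, ¬ Function.Surjective T →
      Module.finrank k (LinearMap.range T) ≤ 2 := fun T hT => by
    have := Submodule.finrank_lt (s := LinearMap.range T) (fun h => hT (LinearMap.range_eq_top.1 h))
    omega
  obtain ⟨a, ha2⟩ := exists_rank_two μ (by omega) hl hr hspan (by omega)
  have hrank : Module.finrank k (LinearMap.range (μ a)) = 2 := le_antisymm (hle _ (hL a)) ha2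
  have hker : Module.finrank k (LinearMap.ker (μ a)) = 1 := by
    have := LinearMap.finrank_range_add_finrank_ker (μ a)
    omega
  obtain ⟨e, he, he0⟩ := Submodule.exists_mem_ne_zero_of_ne_bot
    (fun h => by rw [h, finrank_bot] at hker; omega : LinearMap.ker (μ a) ≠ ⊥)
  have hae : μ a e = 0 := he
  have ha0 : a ≠ 0 := fun h => by
    rw [h, map_zero, LinearMap.range_zero, finrank_bot] at ha2
    omega
  set P := LinearMap.range (μ a) with hP
  have hd : ∀ b, μ b e ∈ P := fun b => derivative μ hW hL hrank hae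
  have hRP : LinearMap.range (μ.flip e) ≤ P := by
    rintro _ ⟨b, rfl⟩
    exact hd b
  obtain ⟨q₀, hq₀⟩ : ∃ q, q ∉ P := by
    by_contra h
    push Not at h
    exact hL a (LinearMap.range_eq_top.1 (eq_top_iff.2 fun q _ => h q))
  have extend3 : ∀ {c₁ c₂ : W}, c₁ ∈ P → c₂ ∈ P → LinearIndependent k ![c₁, c₂] →
      ∃ w : Module.Basis (Fin 3) k W, w 0 = c₁ ∧ w 1 = c₂ ∧ w 2 = q₀ := by
    intro c₁ c₂ h1 h2 hli
    have h3 : LinearIndependent k ![c₁, c₂, q₀] := by
      rw [Fintype.linearIndependent_iff]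
      intro g hg
      simp only [Fin.sum_univ_three, Matrix.cons_val_zero, Matrix.cons_val_one, Matrix.cons_val] at hg
      have hg2 : g 2 = 0 := by
        by_contra hg2
        refine hq₀ ?_
        have e1 : q₀ = (g 2)⁻¹ • (-(g 0 • c₁ + g 1 • c₂)) := by
          rw [neg_eq_of_add_eq_zero_right hg, smul_smul, inv_mul_cancel₀ hg2, one_smul]
        rw [e1]
        exact Submodule.smul_mem _ _ (neg_mem (add_mem (Submodule.smul_mem _ _ h1)
          (Submodule.smul_mem _ _ h2)))
      rw [hg2, zero_smul, add_zero] at hg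
      have h4 := Fintype.linearIndependent_iff.1 hli ![g 0, g 1] (by simpa [Fin.sum_univ_two] using hg)
      intro i
      fin_cases i
      · exact h4 0
      · exact h4 1
      · exact hg2
    obtain ⟨w, hw⟩ := exists_basis_three hW h3
    exact ⟨w, hw 0, hw 1, hw 2⟩
  rcases Nat.lt_or_ge (Module.finrank k (LinearMap.range (μ.flip e))) 2 with hR1 | hR2
  · -- the image of `e` on the right is a line
    exfalso
    obtain ⟨b, hb⟩ : ∃ b, μ b e ≠ 0 := by
      by_contra h
      push Not at h
      exact he0 (hr e (LinearMap.ext fun b => h b))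
    set u := μ b e with hu
    have hline : ∀ x, ∃ c : k, c • u = μ x e := fun x => by
      refine Submodule.mem_span_singleton.1 ?_
      have hle' : Submodule.span k {u} ≤ LinearMap.range (μ.flip e) :=
        (Submodule.span_singleton_le_iff_mem _ _).2 ⟨b, rfl⟩
      have h1 : Module.finrank k (Submodule.span k {u}) = 1 := finrank_span_singleton hb
      have h := Submodule.eq_of_le_of_finrank_le hle' (by omega)
      rw [h]
      exact ⟨x, rfl⟩
    obtain ⟨g₁, hg₁⟩ := hd b
    obtain ⟨p₂, hp₂, hp₂u⟩ := SetLike.not_le_iff_exists.1 (fun h : P ≤ Submodule.span k {u} => by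
      have := Submodule.finrank_mono (R := k) h
      rw [finrank_span_singleton hb] at this
      omega)
    obtain ⟨g₂, hg₂⟩ := hp₂
    have hli : LinearIndependent k ![u, p₂] := (LinearIndependent.pair_iff' hb).2
      fun c hc => hp₂u (Submodule.mem_span_singleton.2 ⟨c, hc⟩)
    obtain ⟨bV, hbV⟩ := exists_basis_three hV
      (li_of_map (T := μ a) he0 hae (by rw [hg₁, hg₂]; exact hli) :
        LinearIndependent k ![e, g₁, g₂])
    obtain ⟨w, hw0, hw1, hw2⟩ := extend3 (hd b) ⟨g₂, hg₂⟩ hli
    -- a second vector killing `e`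
    obtain ⟨kk, hkk, hkk'⟩ := SetLike.not_le_iff_exists.1
      (fun h : LinearMap.ker (μ.flip e) ≤ Submodule.span k {a} => by
        have := Submodule.finrank_mono (R := k) h
        rw [finrank_span_singleton ha0] at this
        have := LinearMap.finrank_range_add_finrank_ker (μ.flip e)
        omega)
    have hke : μ kk e = 0 := hkk
    obtain ⟨aV, haV⟩ := exists_basis_three hV (v := ![a, kk, b]) (by
      rw [Fintype.linearIndependent_iff]
      intro g hg
      simp only [Fin.sum_univ_three, Matrix.cons_val_zero, Matrix.cons_val_one, Matrix.cons_val] at hg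
      have h1 := congrArg (fun x => μ x e) hg
      simp only [map_add, map_smul, LinearMap.add_apply, LinearMap.smul_apply, hae, hke, smul_zero,
        zero_add, map_zero, LinearMap.zero_apply] at h1
      have e2 : g 2 = 0 := (smul_eq_zero.1 h1).resolve_right hb
      rw [e2, zero_smul, add_zero] at hg
      have h2 := (LinearIndependent.pair_iff' ha0).2
        (fun c hc => hkk' (Submodule.mem_span_singleton.2 ⟨c, hc⟩))
      have h4 := Fintype.linearIndependent_iff.1 h2 ![g 0, g 1] (by simpa [Fin.sum_univ_two] using hg)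
      intro i
      fin_cases i
      · exact h4 0
      · exact h4 1
      · exact e2)
    let X : V → V → Fin 3 → k := fun x y i => w.repr (μ x y) i
    have hru : w.repr u = Finsupp.single 0 1 := by rw [show u = w 0 from hw0.symm, Module.Basis.repr_self]
    have hrp : w.repr p₂ = Finsupp.single 1 1 := by rw [← hw1, Module.Basis.repr_self]
    have hag₁ : μ a g₁ = u := hg₁
    have hbe : μ b e = u := rfl
    have hdet : ∀ y₀ y₁ : k, (y₁ * X kk g₁ 1 + X b g₁ 1) * (y₁ * X kk g₂ 2 + X b g₂ 2)
        - (y₀ + y₁ * X kk g₂ 1 + X b g₂ 1) * (y₁ * X kk g₁ 2 + X b g₁ 2) = 0 := by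
      intro y₀ y₁
      have h := det_eq_zero w (hL (y₀ • a + y₁ • kk + b)) ![e, g₁, g₂]
      rw [Module.Basis.det_apply, Matrix.det_fin_three] at h
      simp [Module.Basis.toMatrix_apply, map_add, map_smul, hae, hke, hag₁, hg₂, hbe, hru, hrp] at h
      show (y₁ * X kk g₁ 1 + X b g₁ 1) * (y₁ * X kk g₂ 2 + X b g₂ 2)
        - (y₀ + y₁ * X kk g₂ 1 + X b g₂ 1) * (y₁ * X kk g₁ 2 + X b g₁ 2) = 0
      simp only [X]
      linear_combination h
    have hQ : ∀ y₁ : k, y₁ * X kk g₁ 2 + X b g₁ 2 = 0 := fun y₁ => by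
      linear_combination hdet 0 y₁ - hdet 1 y₁
    have hB21 : X b g₁ 2 = 0 := by simpa using hQ 0
    have hK21 : X kk g₁ 2 = 0 := by simpa [hB21] using hQ 1
    obtain ⟨c0, c1, c2, -⟩ := cubic_zero (a := X b g₁ 1 * X b g₂ 2)
      (b := X kk g₁ 1 * X b g₂ 2 + X b g₁ 1 * X kk g₂ 2) (c := X kk g₁ 1 * X kk g₂ 2) (d := 0)
      fun t => by linear_combination hdet 0 t + (0 + t * X kk g₂ 1 + X b g₂ 1) * hQ t
    have hnz : ¬ (X kk g₂ 2 = 0 ∧ X b g₂ 2 = 0) := by
      rintro ⟨hk, hb'⟩
      have hz : μ.compr₂ (w.coord 2) = 0 := aV.ext fun i => bV.ext fun j => by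
        show w.repr (μ (aV i) (bV j)) 2 = 0
        rw [haV, hbV]
        fin_cases i <;> fin_cases j <;> first
          | (simp [hae, hag₁, hg₂, hke, hbe, hru, hrp]; done)
          | exact hB21
          | exact hK21
          | exact hk
          | exact hb'
      have h1 := hspan (LinearMap.ker (w.coord 2)) fun x y =>
        LinearMap.congr_fun (LinearMap.congr_fun hz x) y
      have h2 : w.coord 2 (w 2) = 0 := LinearMap.mem_ker.1 (h1 ▸ Submodule.mem_top)
      simp at h2
    have hP1 : X kk g₁ 1 = 0 ∧ X b g₁ 1 = 0 := by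
      by_cases hk : X kk g₂ 2 = 0
      · have hb' : X b g₂ 2 ≠ 0 := fun h => hnz ⟨hk, h⟩
        have e0 := (mul_eq_zero.1 c0).resolve_right hb'
        rw [e0, zero_mul, add_zero] at c1
        exact ⟨(mul_eq_zero.1 c1).resolve_right hb', e0⟩
      · have e0 := (mul_eq_zero.1 c2).resolve_right hk
        rw [e0, zero_mul, zero_add] at c1
        exact ⟨e0, (mul_eq_zero.1 c1).resolve_right hk⟩
    -- everything multiplies `e` and `g₁` into the line
    have hcomp : ∀ x, ∃ c : k, μ x g₁ = c • u := fun x => by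
      refine ⟨w.repr (μ x g₁) 0, ?_⟩
      have hz : ∀ j : Fin 3, j ≠ 0 → (w.coord j ∘ₗ μ.flip g₁) = 0 := fun j hj => aV.ext fun i => by
        show w.repr (μ (aV i) g₁) j = 0
        rw [haV]
        fin_cases i <;> fin_cases j <;> first
          | exact absurd rfl hj
          | (simp [hag₁, hru]; done)
          | exact hB21
          | exact hK21
          | exact hP1.1
          | exact hP1.2
      conv_lhs => rw [← w.sum_repr (μ x g₁)]
      rw [Fin.sum_univ_three, show w.repr (μ x g₁) 1 = 0 from LinearMap.congr_fun (hz 1 (by decide)) x,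
        show w.repr (μ x g₁) 2 = 0 from LinearMap.congr_fun (hz 2 (by decide)) x, zero_smul, zero_smul,
        add_zero, add_zero, hw0]
    set Q := LinearMap.range (μ.flip g₂) with hQdef
    have htop : Submodule.span k {u} ⊔ Q = ⊤ := hspan _ fun x y => by
      rw [← bV.sum_repr y, Fin.sum_univ_three, hbV, hbV, hbV, map_add, map_add, map_smul, map_smul,
        map_smul]
      obtain ⟨c, hc⟩ := hline x
      obtain ⟨c', hc'⟩ := hcomp x
      refine add_mem (add_mem ?_ ?_) (Submodule.smul_mem _ _ (Submodule.mem_sup_right ⟨x, rfl⟩))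
      · show _ • μ x e ∈ _
        rw [← hc]
        exact Submodule.smul_mem _ _ (Submodule.mem_sup_left (Submodule.smul_mem _ _
          (Submodule.mem_span_singleton_self u)))
      · show _ • μ x g₁ ∈ _
        rw [hc']
        exact Submodule.smul_mem _ _ (Submodule.mem_sup_left (Submodule.smul_mem _ _
          (Submodule.mem_span_singleton_self u)))
    have hu' : u ∉ Q := fun h => hR g₂ (LinearMap.range_eq_top.1 (by
      rw [← htop, sup_eq_right.2 ((Submodule.span_singleton_le_iff_mem _ _).2 h)]))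
    have hQ2 : Module.finrank k Q = 2 := by
      refine le_antisymm (hle _ (hR g₂)) ?_
      have := Submodule.finrank_add_le_finrank_add_finrank (Submodule.span k {u}) Q
      rw [htop, finrank_top, hW, finrank_span_singleton hb] at this
      omega
    obtain ⟨v, hv, hv0⟩ := Submodule.exists_mem_ne_zero_of_ne_bot
      (fun h => by
        have := LinearMap.finrank_range_add_finrank_ker (μ.flip g₂)
        rw [h, finrank_bot] at this
        rw [hQdef] at hQ2
        omega : LinearMap.ker (μ.flip g₂) ≠ ⊥)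
    have hvg : μ v g₂ = 0 := hv
    have hzero : ∀ x, μ v x ∈ Q → (∃ c : k, μ v x = c • u) → μ v x = 0 := by
      rintro x hx ⟨c, hc⟩
      by_contra hne
      have hc0 : c ≠ 0 := fun h => hne (by rw [hc, h, zero_smul])
      refine hu' ?_
      have e1 : u = c⁻¹ • μ v x := by rw [hc, smul_smul, inv_mul_cancel₀ hc0, one_smul]
      rw [e1]
      exact Submodule.smul_mem _ _ hx
    have hder : ∀ x, μ v x ∈ Q := fun x =>
      derivative μ.flip hW hR hQ2 (a := g₂) (b := x) (e := v) hvg
    refine hv0 (hl v (bV.ext fun i => ?_))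
    rw [hbV, LinearMap.zero_apply]
    fin_cases i
    · exact hzero e (hder e) (by obtain ⟨c, hc⟩ := hline v; exact ⟨c, hc.symm⟩)
    · exact hzero g₁ (hder g₁) (hcomp v)
    · exact hvg
  · -- the image of `e` on the right is the whole plane
    have hRe : LinearMap.range (μ.flip e) = P := Submodule.eq_of_le_of_finrank_le hRP (by omega)
    let cP : Module.Basis (Fin 2) k P := Module.finBasisOfFinrankEq k _ hrank
    have hcli : LinearIndependent k ![(cP 0 : W), (cP 1 : W)] := by
      have h2 : LinearIndependent k (fun i => (cP i : W)) :=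
        cP.linearIndependent.map' P.subtype (Submodule.ker_subtype _)
      have e1 : ![(cP 0 : W), (cP 1 : W)] = fun i => (cP i : W) := by
        funext i; fin_cases i <;> rfl
      rw [e1]; exact h2
    obtain ⟨g₁, hg₁⟩ := (cP 0).2
    obtain ⟨g₂, hg₂⟩ := (cP 1).2
    obtain ⟨f₁, hf₁⟩ : (cP 0 : W) ∈ LinearMap.range (μ.flip e) := by rw [hRe]; exact (cP 0).2
    obtain ⟨f₂, hf₂⟩ : (cP 1 : W) ∈ LinearMap.range (μ.flip e) := by rw [hRe]; exact (cP 1).2
    rw [LinearMap.flip_apply] at hf₁ hf₂
    obtain ⟨w, hw0, hw1, hw2⟩ := extend3 (cP 0).2 (cP 1).2 hcli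
    obtain ⟨bV, hbV⟩ := exists_basis_three hV
      (li_of_map (T := μ a) he0 hae (by rw [hg₁, hg₂]; exact hcli) :
        LinearIndependent k ![e, g₁, g₂])
    obtain ⟨aV, haV⟩ := exists_basis_three hV
      (li_of_map (T := μ.flip e) ha0 hae (by
        rw [LinearMap.flip_apply, LinearMap.flip_apply, hf₁, hf₂]; exact hcli) :
        LinearIndependent k ![a, f₁, f₂])
    let X : V → V → Fin 3 → k := fun x y i => w.repr (μ x y) i
    have hr0 : w.repr (cP 0 : W) = Finsupp.single 0 1 := by rw [← hw0, Module.Basis.repr_self]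
    have hr1 : w.repr (cP 1 : W) = Finsupp.single 1 1 := by rw [← hw1, Module.Basis.repr_self]
    have hdet : ∀ y₀ y₁ y₂ : k,
        y₁ * ((y₁ * X f₁ g₁ 1 + y₂ * X f₂ g₁ 1) * (y₁ * X f₁ g₂ 2 + y₂ * X f₂ g₂ 2)
          - (y₀ + y₁ * X f₁ g₂ 1 + y₂ * X f₂ g₂ 1) * (y₁ * X f₁ g₁ 2 + y₂ * X f₂ g₁ 2))
        - y₂ * ((y₀ + y₁ * X f₁ g₁ 0 + y₂ * X f₂ g₁ 0) * (y₁ * X f₁ g₂ 2 + y₂ * X f₂ g₂ 2)
          - (y₁ * X f₁ g₂ 0 + y₂ * X f₂ g₂ 0) * (y₁ * X f₁ g₁ 2 + y₂ * X f₂ g₁ 2)) = 0 := by
      intro y₀ y₁ y₂
      have h := det_eq_zero w (hL (y₀ • a + y₁ • f₁ + y₂ • f₂)) ![e, g₁, g₂]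
      rw [Module.Basis.det_apply, Matrix.det_fin_three] at h
      simp [Module.Basis.toMatrix_apply, map_add, map_smul, hae, hf₁, hf₂, hg₁, hg₂, hr0, hr1] at h
      simp only [X]
      linear_combination h
    have hC : ∀ y₁ y₂ : k, y₁ * (y₁ * X f₁ g₁ 2 + y₂ * X f₂ g₁ 2)
        + y₂ * (y₁ * X f₁ g₂ 2 + y₂ * X f₂ g₂ 2) = 0 := fun y₁ y₂ => by
      linear_combination hdet 0 y₁ y₂ - hdet 1 y₁ y₂
    have hC11 : X f₁ g₁ 2 = 0 := by simpa using hC 1 0
    have hC22 : X f₂ g₂ 2 = 0 := by simpa using hC 0 1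
    have hC21 : X f₂ g₁ 2 = -X f₁ g₂ 2 := by
      have := hC 1 1
      rw [hC11, hC22] at this
      linear_combination this
    have hlam : X f₁ g₂ 2 ≠ 0 := fun h => by
      have hz : μ.compr₂ (w.coord 2) = 0 := aV.ext fun i => bV.ext fun j => by
        show w.repr (μ (aV i) (bV j)) 2 = 0
        rw [haV, hbV]
        fin_cases i <;> fin_cases j <;> first
          | (simp [hae, hg₁, hg₂, hf₁, hf₂, hr0, hr1]; done)
          | exact hC11
          | exact hC22
          | exact h
          | exact hC21.trans (by rw [h, neg_zero])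
      have h1 := hspan (LinearMap.ker (w.coord 2)) fun x y =>
        LinearMap.congr_fun (LinearMap.congr_fun hz x) y
      have h2 : w.coord 2 (w 2) = 0 := LinearMap.mem_ker.1 (h1 ▸ Submodule.mem_top)
      simp at h2
    obtain ⟨r0, r1, r2, r3⟩ := cubic_zero (a := X f₁ g₁ 1)
      (b := X f₂ g₁ 1 + X f₁ g₂ 1 - X f₁ g₁ 0) (c := X f₂ g₂ 1 - X f₂ g₁ 0 - X f₁ g₂ 0)
      (d := -X f₂ g₂ 0) fun t => by
        have h := hdet 0 1 t
        rw [hC11, hC22, hC21] at h
        refine (mul_eq_zero.1 ?_).resolve_left hlam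
        linear_combination h
    set f₁' := f₁ - X f₁ g₂ 1 • a with hf₁'
    set f₂' := f₂ - X f₂ g₁ 0 • a with hf₂'
    set g₁' := g₁ - X f₂ g₁ 1 • e with hg₁'
    set g₂' := g₂ - X f₁ g₂ 0 • e with hg₂'
    have hexp : ∀ x y, μ x y = X x y 0 • w 0 + X x y 1 • w 1 + X x y 2 • w 2 := fun x y => by
      rw [← Fin.sum_univ_three (fun i => X x y i • w i)]
      exact (w.sum_repr _).symm
    have k11 : μ f₁' g₁' = 0 := by
      simp only [hf₁', hg₁', map_sub, map_smul, LinearMap.sub_apply, LinearMap.smul_apply, hae, hf₁,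
        hg₁, smul_zero, sub_zero, hexp f₁ g₁, hC11, r0, ← hw0]
      rw [show X f₁ g₁ 0 = X f₂ g₁ 1 + X f₁ g₂ 1 by linear_combination -r1]
      module
    have k22 : μ f₂' g₂' = 0 := by
      simp only [hf₂', hg₂', map_sub, map_smul, LinearMap.sub_apply, LinearMap.smul_apply, hae, hf₂,
        hg₂, smul_zero, sub_zero, hexp f₂ g₂, hC22, neg_eq_zero.1 r3, ← hw1]
      rw [show X f₂ g₂ 1 = X f₂ g₁ 0 + X f₁ g₂ 0 by linear_combination r2]
      module
    have k12 : μ f₁' g₂' = X f₁ g₂ 2 • w 2 := by
      simp only [hf₁', hg₂', map_sub, map_smul, LinearMap.sub_apply, LinearMap.smul_apply, hae, hf₁,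
        hg₂, smul_zero, sub_zero, hexp f₁ g₂, ← hw0, ← hw1]
      module
    have k21 : μ f₂' g₁' = -(X f₁ g₂ 2 • w 2) := by
      simp only [hf₂', hg₁', map_sub, map_smul, LinearMap.sub_apply, LinearMap.smul_apply, hae, hf₂,
        hg₁, smul_zero, sub_zero, hexp f₂ g₁, hC21, ← hw0, ← hw1]
      module
    have kag₁ : μ a g₁' = cP 0 := by
      rw [hg₁', map_sub, map_smul, hae, smul_zero, sub_zero, hg₁]
    have kag₂ : μ a g₂' = cP 1 := by
      rw [hg₂', map_sub, map_smul, hae, smul_zero, sub_zero, hg₂]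
    have kf₁e : μ f₁' e = cP 0 := by
      rw [hf₁', map_sub, map_smul, LinearMap.sub_apply, LinearMap.smul_apply, hae, smul_zero,
        sub_zero, hf₁]
    have kf₂e : μ f₂' e = cP 1 := by
      rw [hf₂', map_sub, map_smul, LinearMap.sub_apply, LinearMap.smul_apply, hae, smul_zero,
        sub_zero, hf₂]
    obtain ⟨A', hA'⟩ := exists_basis_three hV
      (li_of_map (T := μ.flip e) ha0 hae (by
        rw [LinearMap.flip_apply, LinearMap.flip_apply, kf₁e, kf₂e]; exact hcli) :
        LinearIndependent k ![a, f₁', f₂'])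
    obtain ⟨B', hB'⟩ := exists_basis_three hV
      (li_of_map (T := μ a) he0 hae (by
        rw [map_neg, map_neg, kag₁, kag₂]
        exact (LinearIndependent.pair_iff.2 fun s t h => by
          have := LinearIndependent.pair_iff.1 hcli s t (neg_eq_zero.1 (by rw [← h]; module))
          exact this)) :
        LinearIndependent k ![e, -g₁', -g₂'])
    refine ⟨A'.equiv B' (Equiv.refl _), fun x => ?_⟩
    rw [← A'.sum_repr x]
    simp only [Fin.sum_univ_three, map_add, map_smul, Module.Basis.equiv_apply, Equiv.refl_apply,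
      LinearMap.add_apply, LinearMap.smul_apply]
    simp only [hA', hB', Matrix.cons_val_zero, Matrix.cons_val_one, Matrix.cons_val, map_neg,
      hae, kag₁, kag₂, kf₁e, kf₂e, k11, k12, k21, k22]
    module

/-- The words of length three of a twisted exterior product span at most a line. -/
theorem trilinear_span {Y : Type*} [AddCommGroup Y] [Module k Y]
    (T : V →ₗ[k] V →ₗ[k] V →ₗ[k] Y) (hV : Module.finrank k V = 3)
    (h12 : ∀ x z, T x x z = 0) (h23 : ∀ z x, T z x x = 0) :
    ∃ y, ∀ p q r, T p q r ∈ Submodule.span k {y} := by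
  let b : Module.Basis (Fin 3) k V := Module.finBasisOfFinrankEq k V hV
  have s12 : ∀ x y z, T x y z = -T y x z := fun x y z => by
    have h := h12 (x + y) z
    simp only [map_add, LinearMap.add_apply, h12, zero_add, add_zero] at h
    exact eq_neg_of_add_eq_zero_right h
  have s23 : ∀ x y z, T x y z = -T x z y := fun x y z => by
    have h := h23 x (y + z)
    simp only [map_add, LinearMap.add_apply, h23, zero_add, add_zero] at h
    exact eq_neg_of_add_eq_zero_right h
  have h13 : ∀ x y, T x y x = 0 := fun x y => by rw [s23, h12, neg_zero]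
  set y := T (b 0) (b 1) (b 2) with hy
  have hS : y ∈ Submodule.span k {y} := Submodule.mem_span_singleton_self y
  have e021 : T (b 0) (b 2) (b 1) = -y := by rw [s23, hy]
  have e102 : T (b 1) (b 0) (b 2) = -y := by rw [s12, hy]
  have e120 : T (b 1) (b 2) (b 0) = y := by rw [s23, e102, neg_neg]
  have e201 : T (b 2) (b 0) (b 1) = y := by rw [s12, e021, neg_neg]
  have e210 : T (b 2) (b 1) (b 0) = -y := by rw [s12, e120]
  refine ⟨y, fun p q r => ?_⟩
  rw [← b.sum_repr p, ← b.sum_repr q, ← b.sum_repr r]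
  simp only [map_sum, map_smul, LinearMap.sum_apply, LinearMap.smul_apply]
  refine sum_mem fun i _ => Submodule.smul_mem _ _ (sum_mem fun j _ => Submodule.smul_mem _ _
    (sum_mem fun l _ => Submodule.smul_mem _ _ ?_))
  fin_cases i <;> fin_cases j <;> fin_cases l <;>
    simp [h12, h23, h13, e021, e102, e120, e201, e210, hS, ← hy]

end CfsgLib.Blocks.SmallCocentre
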