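import Cfsg.Agent.Lib.Blocks.TwoCharacters
import Mathlib.LinearAlgebra.Dual.Lemmas
import Mathlib.LinearAlgebra.FiniteDimensional.Lemmas

/-!
# Twisted products on a space of dimension at most three

A graded algebra in which left and right multiplication by one element are bijective in low
degrees is a twist of an algebra `V` by an automorphism. The characters of `V` give cyclically
invariant functionals.
-/

set_option autoImplicit false
set_option linter.unusedSectionVars false

namespace CfsgLib.Blocks.SmallCocentre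

open scoped Classical

variable {k V : Type*} [Field k] [AddCommGroup V] [Module k V]

/-- The product `pq = a (m p q)` of a graded algebra with `pa = a (σ p)`. -/
structure Twisted (k V : Type*) [Field k] [AddCommGroup V] [Module k V] where
  m : V →ₗ[k] V →ₗ[k] V
  σ : V ≃ₗ[k] V
  a : V
  fix : σ a = a
  one_left : ∀ q, m a q = q
  one_right : ∀ p, m p a = σ p
  map : ∀ p q, σ (m p q) = m (σ p) (σ q)
  assoc : ∀ p q d, m (m p q) d = m (σ p) (m q d)

namespace Twisted

variable (S : Twisted k V)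

/-- A functional multiplicative for the untwisted product. -/
def IsChar (χ : V →ₗ[k] k) : Prop :=
  χ S.a = 1 ∧ ∀ p q, χ (S.m p q) = χ (S.σ p) * χ q

theorem map_symm (p q : V) : S.σ.symm (S.m p q) = S.m (S.σ.symm p) (S.σ.symm q) :=
  S.σ.injective (by rw [S.map, LinearEquiv.apply_symm_apply, LinearEquiv.apply_symm_apply,
    LinearEquiv.apply_symm_apply])

theorem op_mul (p q d : V) :
    S.m (S.σ.symm p) (S.m (S.σ.symm q) d) = S.m (S.σ.symm (S.m (S.σ.symm p) q)) d := by
  rw [S.map_symm, S.assoc, LinearEquiv.apply_symm_apply]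

theorem IsChar.comp_sigma {χ : V →ₗ[k] k} (h : S.IsChar χ) :
    S.IsChar (χ ∘ₗ S.σ.toLinearMap) := by
  refine ⟨?_, fun p q => ?_⟩
  · show χ (S.σ S.a) = 1
    rw [S.fix, h.1]
  · show χ (S.σ (S.m p q)) = χ (S.σ (S.σ p)) * χ (S.σ q)
    rw [S.map, h.2]

/-- Characters exist. -/
theorem exists_char [IsAlgClosed k] [FiniteDimensional k V] (hV : Module.finrank k V ≤ 3)
    (ha : S.a ≠ 0) : ∃ χ, S.IsChar χ := by
  let op : V →ₗ[k] Module.End k V := S.m ∘ₗ S.σ.symm.toLinearMap
  have hop : ∀ p d, op p d = S.m (S.σ.symm p) d := fun _ _ => rfl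
  have hfix : S.σ.symm S.a = S.a := S.σ.injective (by rw [LinearEquiv.apply_symm_apply, S.fix])
  have h1 : op S.a = 1 := LinearMap.ext fun d => by rw [hop, hfix, S.one_left]; rfl
  have hmul : ∀ p q, op p * op q = op (S.m (S.σ.symm p) q) := fun p q => LinearMap.ext fun d => by
    show op p (op q d) = _
    rw [hop, hop, hop, S.op_mul]
  let A : Subalgebra k (Module.End k V) := (LinearMap.range op).toSubalgebra ⟨S.a, h1⟩ (by
    rintro _ _ ⟨p, rfl⟩ ⟨q, rfl⟩
    exact ⟨_, (hmul p q).symm⟩)
  let f : V →ₗ[k] A := op.codRestrict (Subalgebra.toSubmodule A) fun p => ⟨p, rfl⟩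
  have hf : Function.Surjective f := by
    rintro ⟨_, p, rfl⟩
    exact ⟨p, rfl⟩
  have hA : Module.finrank k A ≤ 3 := (LinearMap.finrank_le_finrank_of_surjective hf).trans hV
  obtain ⟨r, d, hd, π, hπ, N, hN⟩ := TwoCharacters.exists_split k A
  have hnt : Nontrivial V := ⟨⟨S.a, 0, ha⟩⟩
  rcases Nat.eq_zero_or_pos r with hr | hr
  · exfalso
    subst hr
    have h0 : (1 : A) ∈ LinearMap.ker π.toLinearMap := LinearMap.mem_ker.2 (funext fun i => i.elim0)
    have h2 := Submodule.pow_mem_pow _ h0 N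
    rw [hN, one_pow, Submodule.mem_bot] at h2
    exact one_ne_zero (congrArg Subtype.val h2)
  set i : Fin r := ⟨0, hr⟩
  haveI := hd i
  let ev : A →ₗ[k] Matrix (Fin (d i)) (Fin (d i)) k := LinearMap.proj i ∘ₗ π.toLinearMap
  have hev : Function.Surjective ev := fun X => by
    obtain ⟨x, hx⟩ := hπ (Pi.single i X)
    exact ⟨x, show π x i = X by rw [hx, Pi.single_eq_same]⟩
  have hdi : d i = 1 := by
    have h2 := (LinearMap.finrank_le_finrank_of_surjective hev).trans hA
    rw [Module.finrank_matrix, Fintype.card_fin, Module.finrank_self, mul_one] at h2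
    have h3 := (hd i).out
    rcases Nat.lt_or_ge (d i) 2 with h4 | h4
    · omega
    · nlinarith
  have hsub : Subsingleton (Fin (d i)) := ⟨fun x y => Fin.ext (by have := x.2; have := y.2; omega)⟩
  refine ⟨{ toFun := fun p => ev (f p) 0 0
            map_add' := fun p q => by simp
            map_smul' := fun c p => by simp }, ?_, fun p q => ?_⟩
  · show π (f S.a) i 0 0 = 1
    rw [show f S.a = 1 from Subtype.ext h1, map_one]
    simp
  · show π (f (S.m p q)) i 0 0 = π (f (S.σ p)) i 0 0 * π (f q) i 0 0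
    rw [show f (S.m p q) = f (S.σ p) * f q from Subtype.ext (by
      show op (S.m p q) = op (S.σ p) * op q
      rw [hmul, LinearEquiv.symm_apply_apply]), map_mul, Pi.mul_apply, Matrix.mul_apply,
      Fintype.sum_subsingleton _ 0]

/-- Distinct characters are linearly independent. -/
theorem linearIndependent {n : ℕ} (f : Fin n → V →ₗ[k] k) (hinj : Function.Injective f)
    (hf : ∀ i, S.IsChar (f i)) : LinearIndependent k f := by
  letI : MulOneClass V :=
    { mul := fun p q => S.m (S.σ.symm p) q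
      one := S.a
      one_mul := fun q => by
        show S.m (S.σ.symm S.a) q = q
        rw [show S.σ.symm S.a = S.a from S.σ.injective (by
          rw [LinearEquiv.apply_symm_apply, S.fix]), S.one_left]
      mul_one := fun p => by
        show S.m (S.σ.symm p) S.a = p
        rw [S.one_right, LinearEquiv.apply_symm_apply] }
  let g : Fin n → V →* k := fun i =>
    { toFun := f i
      map_one' := (hf i).1
      map_mul' := fun p q => by
        show f i (S.m (S.σ.symm p) q) = _
        rw [(hf i).2, LinearEquiv.apply_symm_apply] }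
  have hg : Function.Injective g := fun i j h =>
    hinj (LinearMap.ext fun p => congrArg (fun e : V →* k => e p) h)
  exact LinearIndependent.of_comp (LinearMap.ltoFun k V k k)
    ((linearIndependent_monoidHom V k).comp g hg)

theorem card_le [FiniteDimensional k V] {n : ℕ} (f : Fin n → V →ₗ[k] k)
    (hinj : Function.Injective f) (hf : ∀ i, S.IsChar (f i)) : n ≤ Module.finrank k V := by
  simpa [Subspace.dual_finrank_eq] using
    (S.linearIndependent f hinj hf).fintype_card_le_finrank

theorem pair_sum_ne_zero {χ : V →ₗ[k] k} (hχ : S.IsChar χ) {ψ : V →ₗ[k] k} (hψ : S.IsChar ψ)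
    (hne : ψ ≠ χ) : χ + ψ ≠ 0 := by
  intro h
  have h1 := LinearMap.congr_fun h S.a
  rw [LinearMap.add_apply, hχ.1, hψ.1, LinearMap.zero_apply] at h1
  refine hne (LinearMap.ext fun p => ?_)
  have h2 := LinearMap.congr_fun h p
  rw [LinearMap.add_apply, LinearMap.zero_apply] at h2
  have h3 : (1 + 1 : k) * χ p = 0 := by rw [h1, zero_mul]
  linear_combination h2 - h3

/-- A functional invariant under rotation of words of length four. -/
theorem exists_cyclic_four [IsAlgClosed k] [FiniteDimensional k V] (hV : Module.finrank k V ≤ 2)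
    (ha : S.a ≠ 0) :
    ∃ F : V →ₗ[k] k, F ≠ 0 ∧ ∀ p q r s,
      F (S.m (S.σ (S.σ p)) (S.m (S.σ q) (S.m r s))) = F (S.m (S.σ (S.σ q)) (S.m (S.σ r) (S.m s p))) := by
  obtain ⟨χ, h0⟩ := S.exists_char (by omega) ha
  set χ₁ := χ ∘ₗ S.σ.toLinearMap with hχ₁
  have h1 : S.IsChar χ₁ := h0.comp_sigma
  have hval : ∀ (ψ : V →ₗ[k] k), S.IsChar ψ → ∀ p q r s,
      ψ (S.m (S.σ (S.σ p)) (S.m (S.σ q) (S.m r s)))
        = ψ (S.σ (S.σ (S.σ p))) * (ψ (S.σ (S.σ q)) * (ψ (S.σ r) * ψ s)) := fun ψ h p q r s => by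
    rw [h.2, h.2, h.2]
  by_cases he : χ₁ = χ
  · have hs : ∀ p, χ (S.σ p) = χ p := fun p => LinearMap.congr_fun he p
    refine ⟨χ, fun h => by simpa [h] using h0.1, fun p q r s => ?_⟩
    simp only [hval χ h0, hs]
    ring
  have he2 : χ₁ ∘ₗ S.σ.toLinearMap = χ := by
    by_contra hne
    have hinj : Function.Injective ![χ, χ₁, χ₁ ∘ₗ S.σ.toLinearMap] := by
      have h12 : χ₁ ∘ₗ S.σ.toLinearMap ≠ χ₁ := fun h => he (LinearMap.ext fun p => by
        simpa [hχ₁] using LinearMap.congr_fun h (S.σ.symm p))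
      intro i j hij
      fin_cases i <;> fin_cases j <;>
        simp [Ne.symm he, he, h12, h12.symm, hne, Ne.symm hne] at hij ⊢
    have := S.card_le _ hinj (fun i => by
      fin_cases i
      · exact h0
      · exact h1
      · exact h1.comp_sigma)
    omega
  have hs : ∀ p, χ (S.σ (S.σ p)) = χ p := fun p => LinearMap.congr_fun he2 p
  refine ⟨χ + χ₁, S.pair_sum_ne_zero h0 h1 he, fun p q r s => ?_⟩
  simp only [LinearMap.add_apply, hval χ h0, hval χ₁ h1]
  simp only [hχ₁, LinearMap.comp_apply, LinearEquiv.coe_coe, hs]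
  ring

/-- A functional invariant under rotation of words of length three. -/
theorem exists_cyclic_three [IsAlgClosed k] [FiniteDimensional k V] (hV : Module.finrank k V ≤ 3)
    (ha : S.a ≠ 0)
    (hspan : ∀ f : V →ₗ[k] k, (∀ p q, f (S.m p q) = f (S.m q p)) → f = 0) :
    ∃ F : V →ₗ[k] k, F ≠ 0 ∧ ∀ p q r,
      F (S.m (S.σ p) (S.m q r)) = F (S.m (S.σ q) (S.m r p)) := by
  obtain ⟨χ, h0⟩ := S.exists_char hV ha
  set χ₁ := χ ∘ₗ S.σ.toLinearMap with hχ₁
  set χ₂ := χ₁ ∘ₗ S.σ.toLinearMap with hχ₂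
  have h1 : S.IsChar χ₁ := h0.comp_sigma
  have h2 : S.IsChar χ₂ := h1.comp_sigma
  have n01 : χ₁ ≠ χ := fun h => by
    have hz := hspan χ fun p q => by
      rw [h0.2, h0.2, show χ (S.σ p) = χ p from LinearMap.congr_fun h p,
        show χ (S.σ q) = χ q from LinearMap.congr_fun h q, mul_comm]
    simpa [hz] using h0.1
  have n02 : χ₂ ≠ χ := fun h => S.pair_sum_ne_zero h0 h1 n01 (hspan (χ + χ₁) fun p q => by
    have hp : χ₁ (S.σ p) = χ p := LinearMap.congr_fun h p
    have hq : χ₁ (S.σ q) = χ q := LinearMap.congr_fun h q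
    simp only [LinearMap.add_apply, h0.2, h1.2, hp, hq]
    simp only [hχ₁, LinearMap.comp_apply, LinearEquiv.coe_coe]
    ring)
  have n12 : χ₂ ≠ χ₁ := fun h => n01 (LinearMap.ext fun p => by
    simpa [hχ₁, hχ₂] using LinearMap.congr_fun h (S.σ.symm p))
  have hli := S.linearIndependent ![χ, χ₁, χ₂] (by
      intro i j hij
      fin_cases i <;> fin_cases j <;> simp [n01, n01.symm, n02, n02.symm, n12, n12.symm] at hij ⊢)
    (fun i => by fin_cases i <;> assumption)
  have h3 : χ₂ ∘ₗ S.σ.toLinearMap = χ := by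
    by_contra hne
    have m1 : χ₂ ∘ₗ S.σ.toLinearMap ≠ χ₁ := fun h => n02 (LinearMap.ext fun p => by
      simpa [hχ₁, hχ₂] using LinearMap.congr_fun h (S.σ.symm p))
    have m2 : χ₂ ∘ₗ S.σ.toLinearMap ≠ χ₂ := fun h => n12 (LinearMap.ext fun p => by
      simpa [hχ₁, hχ₂] using LinearMap.congr_fun h (S.σ.symm p))
    have := S.card_le ![χ, χ₁, χ₂, χ₂ ∘ₗ S.σ.toLinearMap] (by
      intro i j hij
      fin_cases i <;> fin_cases j <;>
        simp [n01, n01.symm, n02, n02.symm, n12, n12.symm, m1, m1.symm, m2, m2.symm, hne,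
          Ne.symm hne] at hij ⊢) (fun i => by
      fin_cases i
      · exact h0
      · exact h1
      · exact h2
      · exact h2.comp_sigma)
    omega
  refine ⟨χ + χ₁ + χ₂, fun h => ?_, fun p q r => ?_⟩
  · have h4 := Fintype.linearIndependent_iff.1 hli (fun _ => 1)
      (by simpa [Fin.sum_univ_three] using h) 0
    exact one_ne_zero h4
  · have hs : ∀ x, χ (S.σ (S.σ (S.σ x))) = χ x := fun x => LinearMap.congr_fun h3 x
    simp only [LinearMap.add_apply, h0.2, h1.2, h2.2]
    simp only [hχ₁, hχ₂, LinearMap.comp_apply, LinearEquiv.coe_coe, hs]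
    ring

end Twisted

end CfsgLib.Blocks.SmallCocentre
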