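import Cfsg.Agent.Lib.Blocks.SmallCocentre.Layers
import Cfsg.Agent.Lib.Blocks.SmallCocentre.ThreeSingular
import Cfsg.Agent.Lib.Blocks.SmallCocentre.Twisted

/-!
# Corners with three generators

If the square of the radical is spanned by the commutators and the socle, the fourth power of the
radical vanishes or the cube is cyclic modulo the fourth power.
-/

set_option autoImplicit false
set_option linter.unusedSectionVars false
set_option maxHeartbeats 1000000

namespace CfsgLib.Blocks.SymLocalCorner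

open scoped Classical
open LinearMap (mulLeft mulRight)
open SmallCocentre

variable {k A : Type*} [Field k] [IsAlgClosed k] [Ring A] [Algebra k A] [FiniteDimensional k A]
  {E : A} {R I : Submodule k A} {τ : A →ₗ[k] k}

namespace SymLocal

theorem false_of_three (h : SymLocal τ E R I) {ι : (Fin 3 → k) →ₗ[k] A} (G : Gen I ι) {m : ℕ}
    (hne : I ^ (m + 4) ≠ ⊥) (htop : I ^ (m + 5) = ⊥) (hsq : I ^ 2 ≤ comSub R ⊔ I ^ (m + 4))
    (hcube : ∀ U : Submodule k A, Module.finrank k U ≤ 1 → ¬ I ^ 3 ≤ U ⊔ I ^ 4) : False := by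
  have htopmul : ∀ x ∈ I, ∀ t ∈ I ^ (m + 4), x * t = 0 := fun x hx t ht => h.top_ann htop ht x hx
  -- central elements of the radical annihilate the square
  have hcen : ∀ z ∈ cenPart R, z ∈ I → ∀ i ∈ I ^ 2, z * i = 0 := by
    intro z hz hzI i hi
    have hτ : ∀ j ∈ I ^ 2, τ (z * j) = 0 := fun j hj => by
      obtain ⟨c, hc, t, ht, rfl⟩ := Submodule.mem_sup.1 (hsq hj)
      rw [mul_add, htopmul z hzI t ht, add_zero, h.tau_central hz hc]
    by_contra hne'
    have hiI : i ∈ I := h.pow_succ_le 1 hi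
    obtain ⟨s, hs, hsne⟩ := h.nondeg _ (h.mul z (h.le hzI) i (h.le hiI)) hne'
    refine hsne ?_
    obtain ⟨c, hcs⟩ := h.split s hs
    rw [mul_assoc, show i * s = c • i + i * (s - c • E) by
      rw [mul_sub, mul_smul_comm, h.right i (h.le hiI)]; abel]
    refine hτ _ (add_mem (Submodule.smul_mem _ _ hi) ?_)
    exact h.pow_antitone (n := 2) (m := 3) (by omega) (by omega)
      (by rw [pow_succ]; exact Submodule.mul_mem_mul hi hcs)
  have ha : ∀ U : Submodule k A, Module.finrank k U ≤ 1 → ¬ I ^ (m + 3) ≤ U ⊔ I ^ (m + 4) := by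
    intro U hU hle
    obtain ⟨u, hu⟩ := exists_span_of_finrank_le hU
    have hc := h.pow_le_cenPart (n := m + 1) (u := u) (hle.trans (sup_le_sup_right hu _))
    refine hne (le_bot_iff.1 ?_)
    rw [show m + 4 = (m + 1 + 1) + 2 by omega, pow_add]
    refine Submodule.mul_le.2 fun z hz i hi => ?_
    rw [hcen z (hc hz) (h.pow_succ_le (m + 1) hz) i hi]
    exact zero_mem _
  set N₂ := pairKer τ I (m + 2) with hN₂
  have hI3 : I ^ 3 ≤ N₂ := h.le_pairKer htop (by omega)
  have hsocN : I ^ (m + 4) ≤ N₂ := h.le_pairKer htop (by omega)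
  -- transport a bound on the second layer to the last but one
  have reduce : ∀ a ∈ I, ∀ S : Submodule k A, S ≤ I ^ 2 → I ^ 2 ≤ S ⊔ N₂ →
      (∀ i ∈ I ^ 2, ∃ b ∈ I, i - a * b ∈ N₂) →
      ∃ U : Submodule k A, Module.finrank k U ≤ Module.finrank k S ∧
        I ^ (m + 3) ≤ U ⊔ I ^ (m + 4) := by
    intro a haI S hS hSN hcov
    have claim : ∀ j i, i + j = m + 2 →
        I ^ (2 + j) ≤ S.map (mulLeft k (a ^ j)) ⊔ pairKer τ I i := by
      intro j
      induction j with
      | zero =>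
        intro i hi
        rw [add_zero] at hi
        subst hi
        rw [pow_zero]
        simpa using hSN
      | succ j ih =>
        intro i hi
        rw [show 2 + (j + 1) = 2 + (1 + j) by omega, pow_add]
        refine Submodule.mul_le.2 fun x hx y hy => ?_
        obtain ⟨b, hb, hn⟩ := hcov x hx
        have hn' : x - a * b ∈ pairKer τ I ((1 + j) + i) := by
          rw [show 1 + j + i = m + 2 by omega]; exact hn
        rw [show x * y = a * (b * y) + (x - a * b) * y by noncomm_ring]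
        refine add_mem ?_ (Submodule.mem_sup_right (h.pairKer_mul hn' hy).1)
        have hby : b * y ∈ I ^ (2 + j) := by
          rw [show 2 + j = 1 + (1 + j) by omega, pow_add, pow_one]
          exact Submodule.mul_mem_mul hb hy
        obtain ⟨_, ⟨s, hs, rfl⟩, n, hn, e⟩ := Submodule.mem_sup.1 (ih (i + 1) (by omega) hby)
        rw [← e, mul_add, LinearMap.mulLeft_apply, ← mul_assoc, ← pow_succ']
        refine Submodule.add_mem_sup ⟨s, hs, rfl⟩ ?_
        have hn1 : n ∈ pairKer τ I (1 + i) := by rwa [add_comm]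
        exact (h.pairKer_mul hn1 (by rwa [pow_one])).2
    refine ⟨S.map (mulLeft k (a ^ (m + 1))), Submodule.finrank_map_le _ _, fun x hx => ?_⟩
    have hx' : x ∈ I ^ (2 + (m + 1)) := by rwa [show 2 + (m + 1) = m + 3 by omega]
    obtain ⟨_, ⟨s, hs, rfl⟩, n, hn, e⟩ := Submodule.mem_sup.1 (claim (m + 1) 1 (by omega) hx')
    rw [← e]
    refine Submodule.add_mem_sup ⟨s, hs, rfl⟩ ?_
    have hnI : n ∈ I ^ (m + 3) := by
      rw [show n = x - mulLeft k (a ^ (m + 1)) s by rw [← e]; abel]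
      refine sub_mem hx ?_
      rw [LinearMap.mulLeft_apply, show m + 3 = (m + 1) + 2 by omega, pow_add]
      exact Submodule.mul_mem_mul (Submodule.pow_mem_pow I haI _) (hS hs)
    refine h.mem_top_of_ann (by omega) hne htop (h.le (h.pow_succ_le (m + 2) hnI)) fun y hy => ?_
    have hyn : y * n ∈ I ^ (m + 4) := by rw [pow_succ']; exact Submodule.mul_mem_mul hy hnI
    exact h.eq_zero (h.le (h.pow_succ_le (m + 3) hyn)) (h.top_ann htop hyn)
      (by rw [h.symm]; exact hn y (by rwa [pow_one]))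
  have hzero : ∀ U : Submodule k A, I ^ 2 ≤ N₂ → False := fun _ hle => by
    obtain ⟨U, hU, hle'⟩ := reduce 0 (zero_mem _) ⊥ bot_le (by rwa [bot_sup_eq])
      fun i hi => ⟨0, zero_mem _, by simpa using hle hi⟩
    rw [finrank_bot] at hU
    exact ha U (by omega) hle'
  -- brackets of generators
  have hbr : ∀ X : Submodule k A, brk I 2 ≤ X → (∀ p q, ι p * ι q - ι q * ι p ∈ X) →
      comSub R ≤ X := by
    intro X hX hpq
    refine h.comSub_le_brk.trans (Submodule.span_le.2 ?_)
    rintro _ ⟨a, haI, b, hb, rfl⟩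
    rw [pow_one] at hb
    obtain ⟨p, hp⟩ := G.dec a haI
    obtain ⟨q, hq⟩ := G.dec b hb
    rw [SetLike.mem_coe, show a * b - b * a = (ι p * ι q - ι q * ι p)
      + (ι p * (b - ι q) - (b - ι q) * ι p) + ((a - ι p) * b - b * (a - ι p)) by noncomm_ring]
    exact add_mem (add_mem (hpq p q) (hX (brk_mem (G.mem p) hq))) (hX (brk_mem' hb hp))
  have hbrN : brk I 2 ≤ N₂ := (brk_le 2).trans hI3
  -- no generator annihilates the last but one power
  have hK1 : ∀ v, (∀ i ∈ I ^ (m + 3), τ (ι v * i) = 0) → v = 0 := by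
    intro v hv
    by_contra hv0
    obtain ⟨C₀, hC₀⟩ := Submodule.exists_isCompl (k ∙ v)
    have hC2 : Module.finrank k C₀ = 2 := by
      have := Submodule.finrank_add_eq_of_isCompl hC₀
      rw [finrank_span_singleton hv0, Module.finrank_fin_fun] at this
      omega
    let cb := Module.finBasisOfFinrankEq k C₀ hC2
    set x : Fin 3 → k := (cb 0 : Fin 3 → k) with hx
    set y : Fin 3 → k := (cb 1 : Fin 3 → k) with hy
    set w := ι x * ι y - ι y * ι x with hw
    have hvl : ∀ q, ι v * ι q ∈ N₂ := fun q z hz => by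
      rw [mul_assoc]
      exact hv _ (by rw [pow_succ']; exact Submodule.mul_mem_mul (G.mem q) hz)
    have hvr : ∀ q, ι q * ι v ∈ N₂ := fun q z hz => by
      rw [mul_assoc, h.symm, mul_assoc]
      exact hv _ (by rw [pow_succ]; exact Submodule.mul_mem_mul hz (G.mem q))
    have hwI : w ∈ I ^ 2 := by
      rw [pow_two]
      exact sub_mem (Submodule.mul_mem_mul (G.mem x) (G.mem y))
        (Submodule.mul_mem_mul (G.mem y) (G.mem x))
    have hpar : ∀ p, ∃ l a b : k, p = l • v + (a • x + b • y) := fun p => by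
      have hp : p ∈ (k ∙ v) ⊔ C₀ := hC₀.sup_eq_top ▸ Submodule.mem_top
      obtain ⟨l', hl', c, hc, rfl⟩ := Submodule.mem_sup.1 hp
      obtain ⟨l, rfl⟩ := Submodule.mem_span_singleton.1 hl'
      refine ⟨l, cb.repr ⟨c, hc⟩ 0, cb.repr ⟨c, hc⟩ 1, ?_⟩
      have h1 := congrArg Subtype.val (cb.sum_repr ⟨c, hc⟩)
      simp only [Fin.sum_univ_two, Submodule.coe_add, Submodule.coe_smul] at h1
      rw [h1]
    have hwN : I ^ 2 ≤ Submodule.span k {w} ⊔ N₂ := by
      refine hsq.trans (sup_le (hbr _ (hbrN.trans le_sup_right) fun p q => ?_)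
        (hsocN.trans le_sup_right))
      obtain ⟨l, a, b, rfl⟩ := hpar p
      obtain ⟨l', a', b', rfl⟩ := hpar q
      have e : ι (l • v + (a • x + b • y)) * ι (l' • v + (a' • x + b' • y))
          - ι (l' • v + (a' • x + b' • y)) * ι (l • v + (a • x + b • y))
          = (a * b' - b * a') • w + ((l * a') • (ι v * ι x - ι x * ι v)
            + (l * b') • (ι v * ι y - ι y * ι v) + (a * l') • (ι x * ι v - ι v * ι x)
            + (b * l') • (ι y * ι v - ι v * ι y)) := by
        simp only [hw, map_add, map_smul, mul_add, add_mul, smul_mul_assoc, mul_smul_comm]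
        module
      rw [e]
      exact Submodule.add_mem_sup (Submodule.smul_mem _ _ (Submodule.mem_span_singleton_self w))
        (add_mem (add_mem (add_mem (Submodule.smul_mem _ _ (sub_mem (hvl x) (hvr x)))
          (Submodule.smul_mem _ _ (sub_mem (hvl y) (hvr y))))
          (Submodule.smul_mem _ _ (sub_mem (hvr x) (hvl x))))
          (Submodule.smul_mem _ _ (sub_mem (hvr y) (hvl y))))
    by_cases hwmem : w ∈ N₂
    · exact hzero ⊥ (hwN.trans (sup_le ((Submodule.span_singleton_le_iff_mem _ _).2 hwmem) le_rfl))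
    obtain ⟨a, haI, b, hbI, hab⟩ : ∃ a ∈ I, ∃ b ∈ I, a * b ∉ N₂ := by
      by_contra hno
      push Not at hno
      exact hwmem (sub_mem (hno _ (G.mem x) _ (G.mem y)) (hno _ (G.mem y) _ (G.mem x)))
    obtain ⟨_, hz, n, hn, e⟩ := Submodule.mem_sup.1
      (hwN (show a * b ∈ I ^ 2 by rw [pow_two]; exact Submodule.mul_mem_mul haI hbI))
    obtain ⟨l, rfl⟩ := Submodule.mem_span_singleton.1 hz
    have hl : l ≠ 0 := fun h0 => hab (by rw [← e, h0, zero_smul, zero_add]; exact hn)
    obtain ⟨U, hU, hle⟩ := reduce a haI (Submodule.span k {w})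
      ((Submodule.span_singleton_le_iff_mem _ _).2 hwI) hwN fun i hi => by
        obtain ⟨_, hz', n', hn', rfl⟩ := Submodule.mem_sup.1 (hwN hi)
        obtain ⟨c, rfl⟩ := Submodule.mem_span_singleton.1 hz'
        refine ⟨(c / l) • b, Submodule.smul_mem _ _ hbI, ?_⟩
        rw [mul_smul_comm, ← e, smul_add, smul_smul, div_mul_cancel₀ _ hl]
        rw [show c • w + n' - (c • w + (c / l) • n) = n' - (c / l) • n by abel]
        exact sub_mem hn' (Submodule.smul_mem _ _ hn)
    refine ha U (hU.trans ?_) hle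
    exact (finrank_span_le_card ({w} : Set A)).trans (by simp)
  have hU3 : ∀ U : Submodule k A, I ^ (m + 3) ≤ U ⊔ I ^ (m + 4) → 3 ≤ Module.finrank k U := by
    intro U hle
    let Φ : (Fin 3 → k) →ₗ[k] Module.Dual k U :=
      { toFun := fun v => τ ∘ₗ mulLeft k (ι v) ∘ₗ U.subtype
        map_add' := fun v w => LinearMap.ext fun u => by simp [add_mul]
        map_smul' := fun c v => LinearMap.ext fun u => by simp }
    have hinj : Function.Injective Φ := by
      rw [← LinearMap.ker_eq_bot, Submodule.eq_bot_iff]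
      intro v hv
      refine hK1 v fun i hi => ?_
      obtain ⟨u, hu, t, ht, rfl⟩ := Submodule.mem_sup.1 (hle hi)
      rw [mul_add, htopmul _ (G.mem v) t ht, add_zero]
      exact LinearMap.congr_fun (LinearMap.mem_ker.1 hv) ⟨u, hu⟩
    simpa [Subspace.dual_finrank_eq] using LinearMap.finrank_le_finrank_of_injective hinj
  -- the multiplication into the second layer
  set D := (I ^ 2).map N₂.mkQ with hD
  have hprod : ∀ p q, ι p * ι q ∈ I ^ 2 := fun p q => by
    rw [pow_two]; exact Submodule.mul_mem_mul (G.mem p) (G.mem q)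
  let μ : (Fin 3 → k) →ₗ[k] (Fin 3 → k) →ₗ[k] D := LinearMap.mk₂ k
    (fun p q => ⟨mulMap ι ι N₂ p q, ⟨_, hprod p q, rfl⟩⟩)
    (fun p p' q => Subtype.ext (by simp only [map_add, LinearMap.add_apply]; rfl))
    (fun c p q => Subtype.ext (by simp only [map_smul, LinearMap.smul_apply]; rfl))
    (fun p q q' => Subtype.ext (by simp only [map_add]; rfl))
    (fun c p q => Subtype.ext (by simp only [map_smul]; rfl))
  have hμ : ∀ p q, ((μ p q : D) : A ⧸ N₂) = N₂.mkQ (ι p * ι q) := fun p q => rfl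
  have hμ0 : ∀ p q, μ p q = 0 → ι p * ι q ∈ N₂ := fun p q e =>
    (Submodule.Quotient.mk_eq_zero N₂).1 (congrArg Subtype.val e)
  have hspan : ∀ L : Submodule k D, (∀ p q, μ p q ∈ L) → L = ⊤ := by
    intro L hL
    have hX : I ^ 2 ≤ (L.map D.subtype).comap N₂.mkQ := h.sq_le_of_products G _
      (fun i hi => by
        show N₂.mkQ i ∈ L.map D.subtype
        rw [show N₂.mkQ i = 0 from (Submodule.Quotient.mk_eq_zero N₂).2 (hI3 hi)]
        exact zero_mem _)
      fun p q => ⟨μ p q, hL p q, rfl⟩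
    rw [eq_top_iff]
    rintro ⟨_, i, hi, rfl⟩ -
    obtain ⟨d, hd, e⟩ := hX hi
    have hde : d = ⟨N₂.mkQ i, i, hi, rfl⟩ := Subtype.ext e
    exact hde ▸ hd
  have hann : ∀ v, (∀ q, ι v * ι q ∈ N₂) → v = 0 := fun v hv => hK1 v fun i hi => by
    rw [pow_succ'] at hi
    induction hi using Submodule.mul_induction_on' with
    | mem_mul_mem b hb z hz =>
      obtain ⟨q, hq⟩ := G.dec b hb
      rw [show b * z = ι q * z + (b - ι q) * z by noncomm_ring, mul_add, ← mul_assoc, map_add,
        hv q z hz, htopmul _ (G.mem v) _ (by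
          rw [show m + 4 = 2 + (m + 2) by omega, pow_add]; exact Submodule.mul_mem_mul hq hz),
        map_zero, add_zero]
    | add x _ y _ ihx ihy => rw [mul_add, map_add, ihx, ihy, add_zero]
  have hl : ∀ v, μ v = 0 → v = 0 := fun v hv =>
    hann v fun q => hμ0 v q (LinearMap.congr_fun hv q)
  have hrr : ∀ v, μ.flip v = 0 → v = 0 := fun v hv => hK1 v fun i hi => by
    rw [pow_succ] at hi
    induction hi using Submodule.mul_induction_on' with
    | mem_mul_mem z hz b hb =>
      obtain ⟨q, hq⟩ := G.dec b hb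
      have h1 : τ (ι q * ι v * z) = 0 := hμ0 q v (LinearMap.congr_fun hv q) z hz
      rw [mul_assoc, h.symm, mul_assoc] at h1
      rw [show z * b = z * ι q + z * (b - ι q) by noncomm_ring, mul_add, map_add, h1,
        htopmul _ (G.mem v) _ (by
          rw [show m + 4 = (m + 2) + 2 by omega, pow_add]; exact Submodule.mul_mem_mul hz hq),
        map_zero, add_zero]
    | add x _ y _ ihx ihy => rw [mul_add, map_add, ihx, ihy, add_zero]
  -- three commutators
  set x₀ := ι (Pi.single 0 1) with hx₀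
  set x₁ := ι (Pi.single 1 1) with hx₁
  set x₂ := ι (Pi.single 2 1) with hx₂
  let β : (Fin 3 → k) →ₗ[k] A :=
    Fintype.linearCombination k ![x₀ * x₁ - x₁ * x₀, x₀ * x₂ - x₂ * x₀, x₁ * x₂ - x₂ * x₁]
  have hexp : ∀ p, ι p = p 0 • x₀ + p 1 • x₁ + p 2 • x₂ := fun p => by
    rw [hx₀, hx₁, hx₂, ← map_smul, ← map_smul, ← map_smul, ← map_add, ← map_add]
    congr 1
    funext i
    fin_cases i <;> simp
  have hβ : ∀ p q, ι p * ι q - ι q * ι p ∈ LinearMap.range β := fun p q => by
    refine ⟨![p 0 * q 1 - p 1 * q 0, p 0 * q 2 - p 2 * q 0, p 1 * q 2 - p 2 * q 1], ?_⟩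
    simp only [β, Fintype.linearCombination_apply, Fin.sum_univ_three, Matrix.cons_val_zero,
      Matrix.cons_val_one, Matrix.cons_val, hexp p, hexp q, mul_add, add_mul, smul_mul_assoc,
      mul_smul_comm, smul_add, smul_smul]
    module
  have hβI : ∀ c, β c ∈ I ^ 2 := fun c => by
    simp only [β, Fintype.linearCombination_apply]
    refine sum_mem fun i _ => Submodule.smul_mem _ _ ?_
    rw [pow_two]
    fin_cases i <;> exact sub_mem (Submodule.mul_mem_mul (G.mem _) (G.mem _))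
      (Submodule.mul_mem_mul (G.mem _) (G.mem _))
  have hsqβ : I ^ 2 ≤ LinearMap.range β ⊔ brk I 2 ⊔ I ^ (m + 4) :=
    hsq.trans (sup_le_sup_right (hbr _ le_sup_right fun p q => Submodule.mem_sup_left (hβ p q)) _)
  have hDle : D ≤ LinearMap.range (N₂.mkQ ∘ₗ β) := by
    rintro _ ⟨i, hi, rfl⟩
    obtain ⟨bb, hbb, t, ht, rfl⟩ := Submodule.mem_sup.1 (hsqβ hi)
    obtain ⟨_, ⟨c, rfl⟩, b2, hb2, rfl⟩ := Submodule.mem_sup.1 hbb
    refine ⟨c, ?_⟩
    rw [LinearMap.comp_apply, mkQ_eq_iff, Cong, show β c - (β c + b2 + t) = -(b2 + t) by abel]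
    exact neg_mem (add_mem (hbrN hb2) (hsocN ht))
  have hD3 : Module.finrank k D ≤ 3 :=
    (Submodule.finrank_mono hDle).trans ((LinearMap.finrank_range_le _).trans (Module.finrank_fin_fun k).le)
  rcases Nat.lt_or_ge (Module.finrank k D) 3 with hlt | hge
  · -- the second layer is too small
    obtain ⟨a, hsur⟩ : ∃ a, Function.Surjective (μ a) := by
      rcases Nat.lt_or_ge (Module.finrank k D) 2 with h1 | h2
      · by_cases hall : ∀ a, μ a = 0
        · refine ⟨0, ?_⟩
          rw [← LinearMap.range_eq_top, map_zero, LinearMap.range_zero]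
          exact hspan ⊥ fun p q => by rw [hall p, LinearMap.zero_apply]; exact zero_mem _
        · push Not at hall
          obtain ⟨a, ha'⟩ := hall
          refine ⟨a, surjective_of_rank _ ?_⟩
          have : Module.finrank k (LinearMap.range (μ a)) ≠ 0 := fun h0 =>
            ha' (LinearMap.range_eq_bot.1 (Submodule.finrank_eq_zero.1 h0))
          omega
      · obtain ⟨a, ha'⟩ := exists_rank_two μ (by rw [Module.finrank_fin_fun]; omega) hl hrr hspan h2
        exact ⟨a, surjective_of_rank _ (by omega)⟩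
    obtain ⟨S, hSr, hSd, hSc⟩ := exists_lift_submodule (mulLeft k (ι a) ∘ₗ ι) N₂
    have hS2 : S ≤ I ^ 2 := hSr.trans (by rintro _ ⟨v, rfl⟩; exact hprod a v)
    have hcov : ∀ i ∈ I ^ 2, ∃ q, i - ι a * ι q ∈ N₂ := fun i hi => by
      obtain ⟨q, hq⟩ := hsur ⟨N₂.mkQ i, i, hi, rfl⟩
      exact ⟨q, mkQ_eq_iff.1 (congrArg Subtype.val hq).symm⟩
    obtain ⟨U, hU, hle⟩ := reduce (ι a) (G.mem a) S hS2 (fun i hi => by
        obtain ⟨q, hq⟩ := hcov i hi
        have := add_mem (Submodule.mem_sup_right (S := S) hq) (hSc q)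
        rwa [LinearMap.comp_apply, LinearMap.mulLeft_apply, sub_add_cancel] at this)
      fun i hi => by
        obtain ⟨q, hq⟩ := hcov i hi
        exact ⟨ι q, G.mem q, hq⟩
    have := hU3 U hle
    have : Module.finrank k (LinearMap.range (N₂.mkQ ∘ₗ mulLeft k (ι a) ∘ₗ ι)) ≤ Module.finrank k D :=
      Submodule.finrank_mono (by rintro _ ⟨v, rfl⟩; exact ⟨_, hprod a v, rfl⟩)
    omega
  have hD3' : Module.finrank k D = 3 := le_antisymm hD3 hge
  have hβinj : ∀ c, β c ∈ N₂ → c = 0 := by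
    intro c hc
    have h1 := LinearMap.finrank_range_add_finrank_ker (N₂.mkQ ∘ₗ β)
    have h2 := Submodule.finrank_mono (R := k) hDle
    rw [Module.finrank_fin_fun] at h1
    have h3 : LinearMap.ker (N₂.mkQ ∘ₗ β) = ⊥ := Submodule.finrank_eq_zero.1 (by omega)
    exact (Submodule.eq_bot_iff _).1 h3 c ((Submodule.Quotient.mk_eq_zero N₂).2 hc)
  have hI34 : I ^ (m + 4) ≤ I ^ 3 := h.pow_antitone (by omega) (by omega)
  have hN3 : ∀ i ∈ I ^ 2, i ∈ N₂ → i ∈ I ^ 3 := by
    intro i hi hiN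
    obtain ⟨bb, hbb, t, ht, rfl⟩ := Submodule.mem_sup.1 (hsqβ hi)
    obtain ⟨_, ⟨c, rfl⟩, b2, hb2, rfl⟩ := Submodule.mem_sup.1 hbb
    have hc : β c ∈ N₂ := by
      have := sub_mem hiN (add_mem (hbrN hb2) (hsocN ht))
      rwa [show β c + b2 + t - (b2 + t) = β c by abel] at this
    rw [hβinj c hc, map_zero, zero_add]
    exact add_mem (brk_le 2 hb2) (hI34 ht)
  have hμcong : ∀ p q p' q', μ p q = μ p' q' → Cong (I ^ 3) (ι p * ι q) (ι p' * ι q') :=
    fun p q p' q' e => hN3 _ (sub_mem (hprod p q) (hprod p' q')) (mkQ_eq_iff.1 (congrArg Subtype.val e))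
  -- functionals symmetric on words of length three
  have hphi : ∀ φ : A →ₗ[k] k, (∀ i ∈ I ^ 4, φ i = 0) →
      (∀ a ∈ I, ∀ b ∈ I ^ 2, φ (a * b) = φ (b * a)) → ∀ i ∈ I ^ 3, φ i = 0 := by
    intro φ h4 hcyc i hi
    obtain ⟨bb, hbb, t, ht, rfl⟩ := Submodule.mem_sup.1 (hsqβ (h.pow_antitone (by omega) (by omega) hi))
    obtain ⟨_, ⟨c, rfl⟩, b2, hb2, rfl⟩ := Submodule.mem_sup.1 hbb
    have hc : β c ∈ N₂ := by
      have := sub_mem (hI3 hi) (add_mem (hbrN hb2) (hsocN ht))
      rwa [show β c + b2 + t - (b2 + t) = β c by abel] at this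
    rw [hβinj c hc, map_zero, zero_add, map_add, map_brk φ hcyc hb2,
      h4 t (h.pow_antitone (by omega) (by omega) ht), add_zero]
  have hV3 : Module.finrank k (Fin 3 → k) = 3 := Module.finrank_fin_fun k
  haveI : Infinite k := IsAlgClosed.instInfinite
  -- left multiplication by some element is bijective
  obtain ⟨a, hsur⟩ : ∃ a, Function.Surjective (μ a) := by
    rcases exists_three μ hV3 hD3' hl hrr hspan with h1 | ⟨a, ha'⟩ | ⟨φ, hφ⟩
    · exact h1
    · have hcov : I ^ 2 ≤ LinearMap.range (mulRight k (ι a) ∘ₗ ι) ⊔ I ^ 3 := fun i hi => by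
        obtain ⟨p, hp⟩ := ha' ⟨N₂.mkQ i, i, hi, rfl⟩
        have h1 : ι p * ι a - i ∈ I ^ 3 := hN3 _ (sub_mem (hprod p a) hi)
          (mkQ_eq_iff.1 (congrArg Subtype.val hp))
        rw [show i = ι p * ι a + -(ι p * ι a - i) by abel]
        exact Submodule.add_mem_sup ⟨p, rfl⟩ (neg_mem h1)
      refine ⟨a, (LinearMap.injective_iff_surjective_of_finrank_eq_finrank (hV3.trans hD3'.symm)).1 ?_⟩
      rw [← LinearMap.ker_eq_bot, Submodule.eq_bot_iff]
      intro v hv
      have hv3 : ι a * ι v ∈ I ^ 3 := hN3 _ (hprod a v) (hμ0 a v hv)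
      refine hK1 v fun i hi => ?_
      have hi' : i ∈ I ^ ((m + 1) + 2) := by rwa [show m + 1 + 2 = m + 3 by omega]
      obtain ⟨_, ⟨u, rfl⟩, t, ht, rfl⟩ := Submodule.mem_sup.1 (h.cover_right G hcov (m + 1) hi')
      have ht' : t ∈ I ^ (m + 4) := by rwa [show m + 4 = m + 1 + 3 by omega]
      rw [mul_add, htopmul _ (G.mem v) t ht', add_zero, LinearMap.comp_apply, LinearMap.mulRight_apply,
        ← mul_assoc, h.symm, pow_succ, mul_assoc, ← mul_assoc (ι a)]
      have hz : ι a ^ (m + 1) * (ι a * ι v * ι u) ∈ I ^ (m + 5) := by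
        rw [show m + 5 = (m + 1) + (3 + 1) by omega, pow_add, pow_succ I 3]
        exact Submodule.mul_mem_mul (Submodule.pow_mem_pow I (G.mem a) _)
          (Submodule.mul_mem_mul hv3 (G.mem u))
      rw [htop, Submodule.mem_bot] at hz
      rw [hz, map_zero]
    · -- a twisted exterior product
      exfalso
      let T : (Fin 3 → k) →ₗ[k] (Fin 3 → k) →ₗ[k] (Fin 3 → k) →ₗ[k] A ⧸ (I ^ 4 : Submodule k A) :=
        { toFun := fun p => mulMap (mulLeft k (ι p) ∘ₗ ι ∘ₗ φ.toLinearMap)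
            (ι ∘ₗ φ.toLinearMap ∘ₗ φ.toLinearMap) (I ^ 4)
          map_add' := fun p p' => LinearMap.ext fun q => LinearMap.ext fun r => by simp [add_mul]
          map_smul' := fun c p => LinearMap.ext fun q => LinearMap.ext fun r => by simp }
      have hT : ∀ p q r, T p q r = (I ^ 4).mkQ (ι p * ι (φ q) * ι (φ (φ r))) := fun _ _ _ => rfl
      have hsq3 : ∀ x, ι x * ι (φ x) ∈ I ^ 3 := fun x => hN3 _ (hprod x _) (hμ0 x _ (hφ x))
      obtain ⟨y, hy⟩ := trilinear_span T hV3
        (fun x z => by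
          rw [hT]
          exact (Submodule.Quotient.mk_eq_zero _).2 (by
            rw [pow_succ I 3]; exact Submodule.mul_mem_mul (hsq3 x) (G.mem _)))
        (fun z x => by
          rw [hT, mul_assoc]
          exact (Submodule.Quotient.mk_eq_zero _).2 (by
            rw [pow_succ' I 3]; exact Submodule.mul_mem_mul (G.mem _) (hsq3 (φ x))))
      obtain ⟨y₀, rfl⟩ := (I ^ 4 : Submodule k A).mkQ_surjective y
      refine hcube (Submodule.span k {y₀}) ((finrank_span_le_card ({y₀} : Set A)).trans (by simp)) ?_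
      rw [pow_succ I 2]
      refine Submodule.mul_le.2 fun x hx c hc => ?_
      rw [pow_two] at hx
      induction hx using Submodule.mul_induction_on' with
      | mem_mul_mem a haI b hb =>
        obtain ⟨p, q, hpq⟩ := h.prod_cong G haI hb
        obtain ⟨r, hr⟩ := G.dec c hc
        have h4 : Cong (I ^ 4) (a * b * c) (ι p * ι q * ι r) :=
          (Cong.mul_right hc hpq).trans (by
            rw [Cong, ← mul_sub, show I ^ 4 = I ^ 2 * I ^ 2 by rw [← pow_add]]
            exact Submodule.mul_mem_mul (hprod p q) hr)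
        have h5 := hy p (φ.symm q) (φ.symm (φ.symm r))
        rw [hT, φ.apply_symm_apply, φ.apply_symm_apply, φ.apply_symm_apply] at h5
        obtain ⟨l, hl'⟩ := Submodule.mem_span_singleton.1 h5
        rw [← map_smul, mkQ_eq_iff] at hl'
        rw [show a * b * c = l • y₀ + (a * b * c - l • y₀) by abel]
        exact Submodule.add_mem_sup (Submodule.smul_mem _ _ (Submodule.mem_span_singleton_self y₀))
          (h4.trans hl'.symm)
      | add x _ y _ ihx ihy => rw [add_mul]; exact add_mem ihx ihy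
  have hcov : I ^ 2 ≤ LinearMap.range (mulLeft k (ι a) ∘ₗ ι) ⊔ I ^ 3 := fun i hi => by
    obtain ⟨p, hp⟩ := hsur ⟨N₂.mkQ i, i, hi, rfl⟩
    have h1 : ι a * ι p - i ∈ I ^ 3 := hN3 _ (sub_mem (hprod a p) hi)
      (mkQ_eq_iff.1 (congrArg Subtype.val hp))
    rw [show i = ι a * ι p + -(ι a * ι p - i) by abel]
    exact Submodule.add_mem_sup ⟨p, rfl⟩ (neg_mem h1)
  -- multiplication by powers is injective on the layers
  have hinjtop : ∀ v, ι a ^ (m + 2) * ι v ∈ I ^ (m + 4) → v = 0 := by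
    intro v hv
    obtain ⟨S, -, hSd, hSc⟩ := exists_lift_submodule (mulLeft k (ι a ^ (m + 2)) ∘ₗ ι) (I ^ (m + 4))
    have hge3 := hU3 S ((h.cover_left G hcov (m + 1)).trans (sup_le
      (by rintro _ ⟨u, rfl⟩; exact hSc u) le_sup_right))
    have h1 := LinearMap.finrank_range_add_finrank_ker
      ((I ^ (m + 4)).mkQ ∘ₗ mulLeft k (ι a ^ (m + 2)) ∘ₗ ι)
    rw [Module.finrank_fin_fun] at h1
    have h3 : LinearMap.ker ((I ^ (m + 4)).mkQ ∘ₗ mulLeft k (ι a ^ (m + 2)) ∘ₗ ι) = ⊥ :=
      Submodule.finrank_eq_zero.1 (by omega)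
    exact (Submodule.eq_bot_iff _).1 h3 v ((Submodule.Quotient.mk_eq_zero _).2 hv)
  have hinj2 : ∀ v, ι a * (ι a * ι v) ∈ I ^ 4 → v = 0 := fun v hv => hinjtop v (by
    rw [pow_add (ι a), mul_assoc, pow_two, mul_assoc, pow_add]
    exact Submodule.mul_mem_mul (Submodule.pow_mem_pow I (G.mem a) _) hv)
  have hRsur : Function.Surjective (μ.flip a) := by
    refine (LinearMap.injective_iff_surjective_of_finrank_eq_finrank (hV3.trans hD3'.symm)).1 ?_
    rw [← LinearMap.ker_eq_bot, Submodule.eq_bot_iff]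
    intro v hv
    have hv3 : ι v * ι a ∈ I ^ 3 := hN3 _ (hprod v a) (hμ0 v a hv)
    refine hK1 v fun i hi => ?_
    have hi' : i ∈ I ^ ((m + 1) + 2) := by rwa [show m + 1 + 2 = m + 3 by omega]
    obtain ⟨_, ⟨u, rfl⟩, t, ht, rfl⟩ := Submodule.mem_sup.1 (h.cover_left G hcov (m + 1) hi')
    have ht' : t ∈ I ^ (m + 4) := by rwa [show m + 4 = m + 1 + 3 by omega]
    rw [mul_add, htopmul _ (G.mem v) t ht', add_zero, LinearMap.comp_apply, LinearMap.mulLeft_apply,
      pow_succ', mul_assoc (ι a), ← mul_assoc]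
    have hz : ι v * ι a * (ι a ^ (m + 1) * ι u) ∈ I ^ (m + 5) := by
      rw [show m + 5 = 3 + ((m + 1) + 1) by omega, pow_add, pow_succ I (m + 1)]
      exact Submodule.mul_mem_mul hv3 (Submodule.mul_mem_mul (Submodule.pow_mem_pow I (G.mem a) _) (G.mem u))
    rw [htop, Submodule.mem_bot] at hz
    rw [hz, map_zero]
  -- the twisted algebra
  let e : (Fin 3 → k) ≃ₗ[k] D := LinearEquiv.ofBijective (μ a)
    ⟨(LinearMap.injective_iff_surjective_of_finrank_eq_finrank (hV3.trans hD3'.symm)).2 hsur, hsur⟩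
  have he : ∀ v, e v = μ a v := fun _ => rfl
  let mm : (Fin 3 → k) →ₗ[k] (Fin 3 → k) →ₗ[k] (Fin 3 → k) := μ.compr₂ e.symm.toLinearMap
  have hm : ∀ p q, μ a (mm p q) = μ p q := fun p q => by
    rw [← he]; exact e.apply_symm_apply _
  have hcm : ∀ p q, Cong (I ^ 3) (ι p * ι q) (ι a * ι (mm p q)) := fun p q =>
    hμcong _ _ _ _ (hm p q).symm
  let σ : (Fin 3 → k) ≃ₗ[k] (Fin 3 → k) := (LinearEquiv.ofBijective (μ.flip a)
    ⟨(LinearMap.injective_iff_surjective_of_finrank_eq_finrank (hV3.trans hD3'.symm)).2 hRsur,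
      hRsur⟩).trans e.symm
  have hσ : ∀ p, σ p = mm p a := fun _ => rfl
  have w3 : ∀ p q r, Cong (I ^ 4) (ι p * (ι q * ι r)) (ι a * (ι a * ι (mm (σ p) (mm q r)))) := by
    intro p q r
    refine (Cong.mul_left (G.mem p) (hcm q r)).trans ?_
    rw [← mul_assoc]
    refine (Cong.mul_right (G.mem _) (hcm p a)).trans ?_
    rw [mul_assoc, ← hσ]
    exact Cong.mul_left (G.mem a) (hcm (σ p) (mm q r))
  have w3' : ∀ p q r, Cong (I ^ 4) (ι p * ι q * ι r) (ι a * (ι a * ι (mm (mm p q) r))) := by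
    intro p q r
    refine (Cong.mul_right (G.mem r) (hcm p q)).trans ?_
    rw [mul_assoc]
    exact Cong.mul_left (G.mem a) (hcm _ _)
  have huniq : ∀ u u', Cong (I ^ 4) (ι a * (ι a * ι u)) (ι a * (ι a * ι u')) → u = u' :=
    fun u u' hc => sub_eq_zero.1 (hinj2 _ (by rwa [map_sub, mul_sub, mul_sub]))
  have hone : ∀ q, mm a q = q := fun q => e.injective (by rw [he, hm, he])
  have hfix : σ a = a := by rw [hσ, hone]
  have hassoc : ∀ p q r, mm (mm p q) r = mm (σ p) (mm q r) := fun p q r =>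
    huniq _ _ ((w3' p q r).symm.trans ((mul_assoc (ι p) (ι q) (ι r)).symm ▸ w3 p q r))
  let S : Twisted k (Fin 3 → k) :=
    { m := mm
      σ := σ
      a := a
      fix := hfix
      one_left := hone
      one_right := fun p => (hσ p).symm
      map := fun p q => by
        rw [hσ (mm p q), hassoc, ← hσ q]
      assoc := hassoc }
  have ha0 : a ≠ 0 := fun h0 => by
    have h1 := LinearMap.range_eq_top.2 hsur
    rw [h0, map_zero, LinearMap.range_zero] at h1
    have h2 : Module.finrank k (⊥ : Submodule k D) = 3 := by rw [h1, finrank_top, hD3']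
    rw [finrank_bot] at h2
    omega
  have hcomm : ∀ f : (Fin 3 → k) →ₗ[k] k, (∀ p q, f (mm p q) = f (mm q p)) → f = 0 := by
    intro f hf
    refine LinearMap.ext fun v => ?_
    obtain ⟨c, hc⟩ := hDle (e v).2
    let f' : D →ₗ[k] k := f ∘ₗ e.symm.toLinearMap
    have hb : ∀ p q, f' (μ p q - μ q p) = 0 := fun p q => by
      rw [map_sub, sub_eq_zero]; exact hf p q
    have hev : e v = c 0 • (μ (Pi.single 0 1) (Pi.single 1 1) - μ (Pi.single 1 1) (Pi.single 0 1))
        + c 1 • (μ (Pi.single 0 1) (Pi.single 2 1) - μ (Pi.single 2 1) (Pi.single 0 1))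
        + c 2 • (μ (Pi.single 1 1) (Pi.single 2 1) - μ (Pi.single 2 1) (Pi.single 1 1)) := by
      refine Subtype.ext ?_
      rw [← hc]
      simp only [β, LinearMap.comp_apply, Fintype.linearCombination_apply, Fin.sum_univ_three,
        Matrix.cons_val_zero, Matrix.cons_val_one, Matrix.cons_val, map_add, map_smul, map_sub,
        Submodule.coe_add, Submodule.coe_smul, Submodule.coe_sub, hμ]
      rfl
    have h1 : f' (e v) = 0 := by
      rw [hev, map_add, map_add, map_smul, map_smul, map_smul, hb, hb, hb]; simp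
    simpa [f'] using h1
  obtain ⟨F, hF, hFc⟩ := S.exists_cyclic_three (le_of_eq hV3) ha0 hcomm
  -- the functional on the corner
  let ψ : (Fin 3 → k) →ₗ[k] A ⧸ (I ^ 4 : Submodule k A) :=
    (I ^ 4).mkQ ∘ₗ mulLeft k (ι a) ∘ₗ mulLeft k (ι a) ∘ₗ ι
  obtain ⟨g, hg⟩ := LinearMap.exists_leftInverse_of_injective ψ
    ((Submodule.eq_bot_iff _).2 fun v hv => hinj2 v ((Submodule.Quotient.mk_eq_zero _).1 hv))
  let Φ : A →ₗ[k] k := F ∘ₗ g ∘ₗ (I ^ 4).mkQ
  have hΦ4 : ∀ i ∈ I ^ 4, Φ i = 0 := fun i hi => by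
    show F (g ((I ^ 4).mkQ i)) = 0
    rw [Submodule.mkQ_apply, (Submodule.Quotient.mk_eq_zero _).2 hi, map_zero, map_zero]
  have hΦc : ∀ x y, Cong (I ^ 4) x y → Φ x = Φ y := fun x y hxy => by
    show F (g _) = F (g _)
    rw [mkQ_eq_iff.2 hxy]
  have hΦa : ∀ v, Φ (ι a * (ι a * ι v)) = F v := fun v => congrArg F (LinearMap.congr_fun hg v)
  have hΦw : ∀ p q r, Φ (ι p * (ι q * ι r)) = F (mm (σ p) (mm q r)) := fun p q r => by
    rw [hΦc _ _ (w3 p q r), hΦa]
  refine hF (LinearMap.ext fun v => ?_)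
  rw [← hΦa, LinearMap.zero_apply]
  refine hphi Φ hΦ4 (fun x hx b hb => ?_) _ (by
    rw [pow_succ' I 2]; exact Submodule.mul_mem_mul (G.mem a) (hprod a v))
  obtain ⟨p, hp⟩ := G.dec x hx
  rw [pow_two] at hb
  induction hb using Submodule.mul_induction_on' with
  | mem_mul_mem y hy z hz =>
    obtain ⟨q, r, hqr⟩ := h.prod_cong G hy hz
    have c1 : Cong (I ^ 4) (x * (y * z)) (ι p * (ι q * ι r)) :=
      (Cong.mul_left hx hqr).trans (by
        rw [Cong, ← sub_mul, show I ^ 4 = I ^ 2 * I ^ 2 by rw [← pow_add]]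
        exact Submodule.mul_mem_mul hp (hprod q r))
    have c2 : Cong (I ^ 4) (y * z * x) (ι q * (ι r * ι p)) :=
      (Cong.mul_right hx hqr).trans (by
        rw [Cong, ← mul_assoc, ← mul_sub, show I ^ 4 = I ^ 2 * I ^ 2 by rw [← pow_add]]
        exact Submodule.mul_mem_mul (hprod q r) hp)
    rw [hΦc _ _ c1, hΦc _ _ c2, hΦw, hΦw]
    exact hFc p q r
  | add b₁ _ b₂ _ ih1 ih2 => rw [mul_add, add_mul, map_add, map_add, ih1, ih2]

end SymLocal

end CfsgLib.Blocks.SymLocalCorner
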