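import Cfsg.Agent.Lib.Blocks.SmallCocentre.TwoGen
import Cfsg.Agent.Lib.Blocks.SmallCocentre.ThreeGen

/-!
# Symmetric local corners with a cocentre of dimension at most five

Such a corner has dimension at most eight (Chlebowitz–Külshammer).
-/

set_option autoImplicit false
set_option linter.unusedSectionVars false
set_option maxHeartbeats 1000000

namespace CfsgLib.Blocks.SymLocalCorner

open scoped Classical
open LinearMap (mulLeft mulRight)

variable {k A : Type*} [Field k] [IsAlgClosed k] [Ring A] [Algebra k A] [FiniteDimensional k A]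
  {E : A} {R I : Submodule k A} {τ : A →ₗ[k] k}

namespace SymLocal

/-- With two generators and small codimension of the commutators the fifth power vanishes. -/
theorem false_of_two (h : SymLocal τ E R I) {ι : (Fin 2 → k) →ₗ[k] A} (G : Gen I ι) {m : ℕ}
    (htop : I ^ (m + 6) = ⊥) (hne : I ^ (m + 5) ≠ ⊥) {s : A} (hs : s ∈ I ^ 2)
    (hsq : I ^ 2 ≤ comSub R ⊔ I ^ (m + 5) ⊔ Submodule.span k {s})
    (hno : ∀ U : Submodule k A, Module.finrank k U ≤ 1 → ¬ I ^ 2 ≤ U ⊔ I ^ 3)
    (hcube : ∀ U : Submodule k A, Module.finrank k U ≤ 1 → ¬ I ^ 3 ≤ U ⊔ I ^ 4) : False := by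
  set x := ι (Pi.single 0 1) with hx
  set y := ι (Pi.single 1 1) with hy
  have hxI : x ∈ I := G.mem _
  have hyI : y ∈ I := G.mem _
  set w := x * y - y * x with hw
  have hexp : ∀ p, ι p = p 0 • x + p 1 • y := fun p => by
    rw [hx, hy, ← map_smul, ← map_smul, ← map_add]
    congr 1
    funext i
    fin_cases i <;> simp
  have hwI : w ∈ I ^ 2 := by
    rw [pow_two]; exact sub_mem (Submodule.mul_mem_mul hxI hyI) (Submodule.mul_mem_mul hyI hxI)
  have hL4 : I ^ (m + 5) ≤ I ^ 4 := h.pow_antitone (by omega) (by omega)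
  have hL5 : I ^ (m + 5) ≤ I ^ 5 := h.pow_antitone (by omega) (by omega)
  let β : (Fin 2 → k) →ₗ[k] A := Fintype.linearCombination k ![w, s]
  have hβ : ∀ c, β c = c 0 • w + c 1 • s := fun c => by
    simp [β, Fintype.linearCombination_apply, Fin.sum_univ_two]
  have hβI : ∀ c, β c ∈ I ^ 2 := fun c => by
    rw [hβ]; exact add_mem (Submodule.smul_mem _ _ hwI) (Submodule.smul_mem _ _ hs)
  have hdec : ∀ i ∈ I ^ 2, ∃ c, ∃ b ∈ brk I 2, ∃ t ∈ I ^ (m + 5), i = β c + b + t := by
    intro i hi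
    have hsplit : comSub R ≤ Submodule.span k {w} ⊔ brk I 2 := by
      refine h.comSub_le_brk.trans (Submodule.span_le.2 ?_)
      rintro _ ⟨a, ha, b, hb, rfl⟩
      rw [pow_one] at hb
      obtain ⟨p, hp⟩ := G.dec a ha
      obtain ⟨q, hq⟩ := G.dec b hb
      rw [SetLike.mem_coe, show a * b - b * a = (ι p * ι q - ι q * ι p)
        + (ι p * (b - ι q) - (b - ι q) * ι p) + ((a - ι p) * b - b * (a - ι p)) by noncomm_ring]
      refine add_mem (add_mem ?_ (Submodule.mem_sup_right (brk_mem (G.mem p) hq)))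
        (Submodule.mem_sup_right (brk_mem' hb hp))
      refine Submodule.mem_sup_left (Submodule.mem_span_singleton.2 ⟨p 0 * q 1 - p 1 * q 0, ?_⟩)
      rw [hw, hexp p, hexp q]
      simp only [mul_add, add_mul, smul_mul_assoc, mul_smul_comm, smul_smul]
      module
    obtain ⟨ct, hct, l', hl', rfl⟩ := Submodule.mem_sup.1 (hsq hi)
    obtain ⟨c, hc, t, ht, rfl⟩ := Submodule.mem_sup.1 hct
    obtain ⟨w', hw', b, hb, rfl⟩ := Submodule.mem_sup.1 (hsplit hc)
    obtain ⟨l, rfl⟩ := Submodule.mem_span_singleton.1 hl'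
    obtain ⟨l₀, rfl⟩ := Submodule.mem_span_singleton.1 hw'
    refine ⟨![l₀, l], b, hb, t, ht, ?_⟩
    rw [hβ, Matrix.cons_val_zero, Matrix.cons_val_one, Matrix.cons_val_fin_one]
    abel
  have hbrk3 : brk I 2 ≤ I ^ 3 := brk_le 2
  -- the basis of the second layer
  have hrange : I ^ 2 ≤ LinearMap.range β ⊔ I ^ 3 := fun i hi => by
    obtain ⟨c, b, hb, t, ht, rfl⟩ := hdec i hi
    rw [add_assoc]
    exact Submodule.add_mem_sup ⟨c, rfl⟩
      (add_mem (hbrk3 hb) (h.pow_antitone (by omega) (by omega) ht))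
  have hβinj : ∀ c, β c ∈ I ^ 3 → c = 0 := by
    intro c hc
    obtain ⟨S, -, hSd, hSc⟩ := exists_lift_submodule β (I ^ 3)
    have h1 := LinearMap.finrank_range_add_finrank_ker ((I ^ 3).mkQ ∘ₗ β)
    rw [Module.finrank_fin_fun] at h1
    have h2 : 2 ≤ Module.finrank k (LinearMap.range ((I ^ 3).mkQ ∘ₗ β)) := by
      by_contra hlt
      exact hno S (by omega) (hrange.trans (sup_le (by rintro _ ⟨u, rfl⟩; exact hSc u) le_sup_right))
    have h3 : LinearMap.ker ((I ^ 3).mkQ ∘ₗ β) = ⊥ := Submodule.finrank_eq_zero.1 (by omega)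
    exact (Submodule.eq_bot_iff _).1 h3 c ((Submodule.Quotient.mk_eq_zero _).2 hc)
  have hcube' : ∀ i ∈ I ^ 3, ∃ b ∈ brk I 2, ∃ t ∈ I ^ (m + 5), i = b + t := by
    intro i hi
    obtain ⟨c, b, hb, t, ht, rfl⟩ := hdec i (h.pow_antitone (by omega) (by omega) hi)
    have hc : β c ∈ I ^ 3 := by
      have := sub_mem hi (add_mem (hbrk3 hb) (h.pow_antitone (by omega) (by omega) ht))
      rwa [show β c + b + t - (b + t) = β c by abel] at this
    exact ⟨b, hb, t, ht, by rw [hβinj c hc, map_zero, zero_add]⟩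
  -- brackets with the square
  have hbrk2 : ∀ b ∈ brk I 2, ∃ g ∈ I ^ 2, ∃ g' ∈ I ^ 2,
      b - ((x * g - g * x) + (y * g' - g' * y)) ∈ brk I 3 := by
    intro b hb
    induction hb using Submodule.span_induction with
    | mem z hz =>
      obtain ⟨a, ha, c, hc, rfl⟩ := hz
      obtain ⟨p, hp⟩ := G.dec a ha
      refine ⟨p 0 • c, Submodule.smul_mem _ _ hc, p 1 • c, Submodule.smul_mem _ _ hc, ?_⟩
      have := sq_bracket hp hc
      rw [hexp p] at this
      convert this using 1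
      simp only [mul_add, add_mul, sub_mul, mul_sub, smul_mul_assoc, mul_smul_comm]
      abel
    | zero =>
      refine ⟨0, zero_mem _, 0, zero_mem _, ?_⟩
      simp
    | add b₁ b₂ _ _ ih1 ih2 =>
      obtain ⟨g, hg, g', hg', e⟩ := ih1
      obtain ⟨f, hf, f', hf', e'⟩ := ih2
      refine ⟨g + f, add_mem hg hf, g' + f', add_mem hg' hf', ?_⟩
      convert add_mem e e' using 1
      noncomm_ring
    | smul l b₁ _ ih =>
      obtain ⟨g, hg, g', hg', e⟩ := ih
      refine ⟨l • g, Submodule.smul_mem _ _ hg, l • g', Submodule.smul_mem _ _ hg', ?_⟩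
      convert Submodule.smul_mem _ l e using 1
      simp only [mul_smul_comm, smul_mul_assoc, smul_sub, smul_add]
  obtain ⟨Φ, hΦ5, ⟨i, hi, hΦi⟩, hΦc⟩ := h.exists_cyclic G
    (h.exists_shape G ⟨LinearMap.range β, (LinearMap.finrank_range_le _).trans (Module.finrank_fin_fun k).le,
      hrange⟩ hno).2 hne
  -- the brackets landing in the fourth power
  let Ω : (Fin 2 → k) × (Fin 2 → k) →ₗ[k] A :=
    ((mulLeft k x - mulRight k x) ∘ₗ β).coprod ((mulLeft k y - mulRight k y) ∘ₗ β)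
  have hΩ : ∀ c d, Ω (c, d) = (x * β c - β c * x) + (y * β d - β d * y) := fun c d => rfl
  have hred : ∀ g ∈ I ^ 2, ∀ g' ∈ I ^ 2, ∃ c d, g - β c ∈ I ^ 3 ∧ g' - β d ∈ I ^ 3 := by
    intro g hg g' hg'
    obtain ⟨_, ⟨c, rfl⟩, t, ht, rfl⟩ := Submodule.mem_sup.1 (hrange hg)
    obtain ⟨_, ⟨d, rfl⟩, t', ht', rfl⟩ := Submodule.mem_sup.1 (hrange hg')
    exact ⟨c, d, by simpa using ht, by simpa using ht'⟩
  have hcongΩ : ∀ g g' c d, g - β c ∈ I ^ 3 → g' - β d ∈ I ^ 3 →
      (x * g - g * x) + (y * g' - g' * y) - Ω (c, d) ∈ brk I 3 := by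
    intro g g' c d hc hd
    convert add_mem (brk_mem hxI hc) (brk_mem hyI hd) using 1
    rw [hΩ]
    noncomm_ring
  have hker : Module.finrank k (LinearMap.ker ((I ^ 4).mkQ ∘ₗ Ω)) ≤ 2 := by
    obtain ⟨S, -, hSd, hSc⟩ := exists_lift_submodule Ω (I ^ 4)
    have h1 := LinearMap.finrank_range_add_finrank_ker ((I ^ 4).mkQ ∘ₗ Ω)
    rw [Module.finrank_prod, Module.finrank_fin_fun] at h1
    by_contra hlt
    refine hcube S (by omega) fun j hj => ?_
    obtain ⟨b, hb, t, ht, rfl⟩ := hcube' j hj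
    obtain ⟨g, hg, g', hg', e⟩ := hbrk2 b hb
    obtain ⟨c, d, hc, hd⟩ := hred g hg g' hg'
    refine add_mem ?_ (Submodule.mem_sup_right (hL4 ht))
    have h2 := add_mem (brk_le 3 e) (brk_le 3 (hcongΩ g g' c d hc hd))
    have h3 := add_mem (Submodule.mem_sup_right (S := S) h2) (hSc (c, d))
    convert h3 using 1
    abel
  -- the identities give two elements of that kernel
  have finish : ∀ g₁ g₁' g₂ g₂', g₁ ∈ I ^ 2 → g₁' ∈ I ^ 2 → g₂ ∈ I ^ 2 → g₂' ∈ I ^ 2 →
      (x * g₁ - g₁ * x) + (y * g₁' - g₁' * y) = 0 → (x * g₂ - g₂ * x) + (y * g₂' - g₂' * y) = 0 →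
      (∀ l l' : k, l • g₁ + l' • g₂ ∈ I ^ 3 → l • g₁' + l' • g₂' ∈ I ^ 3 → l = 0 ∧ l' = 0) →
      False := by
    intro g₁ g₁' g₂ g₂' m1 m1' m2 m2' e1 e2 hind
    obtain ⟨c₁, d₁, hc₁, hd₁⟩ := hred g₁ m1 g₁' m1'
    obtain ⟨c₂, d₂, hc₂, hd₂⟩ := hred g₂ m2 g₂' m2'
    have hmem : ∀ g g' c d, g - β c ∈ I ^ 3 → g' - β d ∈ I ^ 3 →
        (x * g - g * x) + (y * g' - g' * y) = 0 → (c, d) ∈ LinearMap.ker ((I ^ 4).mkQ ∘ₗ Ω) := by
      intro g g' c d hc hd e
      have := brk_le 3 (hcongΩ g g' c d hc hd)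
      rw [e, zero_sub, neg_mem_iff] at this
      exact (Submodule.Quotient.mk_eq_zero _).2 this
    let P : (Fin 2 → k) →ₗ[k] LinearMap.ker ((I ^ 4).mkQ ∘ₗ Ω) :=
      Fintype.linearCombination k
        ![⟨(c₁, d₁), hmem _ _ _ _ hc₁ hd₁ e1⟩, ⟨(c₂, d₂), hmem _ _ _ _ hc₂ hd₂ e2⟩]
    have hP : ∀ l, (P l : (Fin 2 → k) × (Fin 2 → k))
        = (l 0 • c₁ + l 1 • c₂, l 0 • d₁ + l 1 • d₂) := fun l => by
      simp [P, Fintype.linearCombination_apply, Fin.sum_univ_two]
    have hinj : Function.Injective P := by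
      rw [← LinearMap.ker_eq_bot, Submodule.eq_bot_iff]
      intro l hl
      have h0 := congrArg Subtype.val (show P l = 0 from hl)
      rw [hP, ZeroMemClass.coe_zero, Prod.mk_eq_zero] at h0
      obtain ⟨l0, l1⟩ := hind (l 0) (l 1) (by
          have h1 := add_mem (Submodule.smul_mem _ (l 0) hc₁) (Submodule.smul_mem _ (l 1) hc₂)
          rwa [smul_sub, smul_sub, show l 0 • g₁ - l 0 • β c₁ + (l 1 • g₂ - l 1 • β c₂)
            = l 0 • g₁ + l 1 • g₂ - (l 0 • β c₁ + l 1 • β c₂) by abel, ← map_smul, ← map_smul,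
            ← map_add, h0.1, map_zero, sub_zero] at h1) (by
          have h1 := add_mem (Submodule.smul_mem _ (l 0) hd₁) (Submodule.smul_mem _ (l 1) hd₂)
          rwa [smul_sub, smul_sub, show l 0 • g₁' - l 0 • β d₁ + (l 1 • g₂' - l 1 • β d₂)
            = l 0 • g₁' + l 1 • g₂' - (l 0 • β d₁ + l 1 • β d₂) by abel, ← map_smul, ← map_smul,
            ← map_add, h0.2, map_zero, sub_zero] at h1)
      funext j
      fin_cases j
      · exact l0
      · exact l1
    have hsurj : Function.Surjective P := by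
      refine SmallCocentre.surjective_of_rank P ?_
      rw [LinearMap.finrank_range_of_inj hinj, Module.finrank_fin_fun]
      exact hker
    refine hΦi ?_
    obtain ⟨b, hb, t, ht, rfl⟩ := hcube' i (h.pow_antitone (by omega) (by omega) hi)
    obtain ⟨g, hg, g', hg', e⟩ := hbrk2 b hb
    obtain ⟨c, d, hc, hd⟩ := hred g hg g' hg'
    have hcd : (c, d) ∈ LinearMap.ker ((I ^ 4).mkQ ∘ₗ Ω) := by
      refine (Submodule.Quotient.mk_eq_zero _).2 ?_
      have := sub_mem (sub_mem (sub_mem hi (hL4 ht)) (brk_le 3 e)) (brk_le 3 (hcongΩ g g' c d hc hd))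
      convert this using 1
      abel
    obtain ⟨l, hl⟩ := hsurj ⟨(c, d), hcd⟩
    have h0 := congrArg Subtype.val hl
    rw [hP, Prod.mk.injEq] at h0
    obtain ⟨hc0, hd0⟩ := h0
    have k1 : g - (l 0 • g₁ + l 1 • g₂) ∈ I ^ 3 := by
      have := sub_mem hc (add_mem (Submodule.smul_mem _ (l 0) hc₁) (Submodule.smul_mem _ (l 1) hc₂))
      convert this using 1
      rw [← hc0, map_add, map_smul, map_smul, smul_sub, smul_sub]
      abel
    have k2 : g' - (l 0 • g₁' + l 1 • g₂') ∈ I ^ 3 := by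
      have := sub_mem hd (add_mem (Submodule.smul_mem _ (l 0) hd₁) (Submodule.smul_mem _ (l 1) hd₂))
      convert this using 1
      rw [← hd0, map_add, map_smul, map_smul, smul_sub, smul_sub]
      abel
    have h3 : b ∈ brk I 3 := by
      have e' : (x * g - g * x) + (y * g' - g' * y)
          = (x * (g - (l 0 • g₁ + l 1 • g₂)) - (g - (l 0 • g₁ + l 1 • g₂)) * x)
            + (y * (g' - (l 0 • g₁' + l 1 • g₂')) - (g' - (l 0 • g₁' + l 1 • g₂')) * y)
            + (l 0 • ((x * g₁ - g₁ * x) + (y * g₁' - g₁' * y))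
              + l 1 • ((x * g₂ - g₂ * x) + (y * g₂' - g₂' * y))) := by
        simp only [mul_sub, sub_mul, mul_add, add_mul, mul_smul_comm, smul_mul_assoc, smul_add, smul_sub]
        abel
      rw [e1, e2, smul_zero, smul_zero, add_zero, add_zero] at e'
      rw [e'] at e
      have := add_mem e (add_mem (brk_mem hxI k1) (brk_mem hyI k2))
      rwa [sub_add_cancel] at this
    rw [map_add, map_brk Φ hΦc h3, hΦ5 t (hL5 ht), add_zero]
  have mxx : x * x ∈ I ^ 2 := by rw [pow_two]; exact Submodule.mul_mem_mul hxI hxI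
  have myy : y * y ∈ I ^ 2 := by rw [pow_two]; exact Submodule.mul_mem_mul hyI hyI
  have mxy : x * y + y * x ∈ I ^ 2 := by
    rw [pow_two]; exact add_mem (Submodule.mul_mem_mul hxI hyI) (Submodule.mul_mem_mul hyI hxI)
  have i1 : (x * (x * x) - (x * x) * x) + (y * 0 - 0 * y) = 0 := by noncomm_ring
  have i2 : (x * (x * y + y * x) - (x * y + y * x) * x) + (y * (x * x) - (x * x) * y) = 0 := by
    noncomm_ring
  have i3 : (x * 0 - 0 * x) + (y * (y * y) - (y * y) * y) = 0 := by noncomm_ring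
  have i4 : (x * (y * y) - (y * y) * x) + (y * (x * y + y * x) - (x * y + y * x) * y) = 0 := by
    noncomm_ring
  have cancel : ∀ (l : k) (g : A), g ∉ I ^ 3 → l • g ∈ I ^ 3 → l = 0 := fun l g hg hlg => by
    by_contra hl
    exact hg (by simpa [smul_smul, hl] using Submodule.smul_mem _ l⁻¹ hlg)
  by_cases hxx : x * x ∈ I ^ 3
  swap
  · refine finish (x * x) 0 (x * y + y * x) (x * x) mxx (zero_mem _) mxy mxx i1 i2 fun l l' h1 h2 => ?_
    rw [smul_zero, zero_add] at h2
    have hl' := cancel l' _ hxx h2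
    rw [hl', zero_smul, add_zero] at h1
    exact ⟨cancel l _ hxx h1, hl'⟩
  by_cases hyy : y * y ∈ I ^ 3
  swap
  · refine finish (y * y) (x * y + y * x) 0 (y * y) myy mxy (zero_mem _) myy i4 i3 fun l l' h1 h2 => ?_
    rw [smul_zero, add_zero] at h1
    have hl := cancel l _ hyy h1
    rw [hl, zero_smul, zero_add] at h2
    exact ⟨hl, cancel l' _ hyy h2⟩
  have hxy : x * y + y * x ∉ I ^ 3 := by
    intro hin
    refine hno (Submodule.span k {x * y}) ((finrank_span_le_card ({x * y} : Set A)).trans (by simp))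
      (h.sq_le_of_products G _ le_sup_right fun p q => ?_)
    have e : ι p * ι q = (p 0 * q 1 - p 1 * q 0) • (x * y)
        + ((p 0 * q 0) • (x * x) + (p 1 * q 1) • (y * y) + (p 1 * q 0) • (x * y + y * x)) := by
      rw [hexp p, hexp q]
      simp only [mul_add, add_mul, smul_mul_assoc, mul_smul_comm, smul_smul, smul_add]
      module
    rw [e]
    exact Submodule.add_mem_sup (Submodule.smul_mem _ _ (Submodule.mem_span_singleton_self _))
      (add_mem (add_mem (Submodule.smul_mem _ _ hxx) (Submodule.smul_mem _ _ hyy))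
        (Submodule.smul_mem _ _ hin))
  refine finish (x * y + y * x) (x * x) (y * y) (x * y + y * x) mxy mxx myy mxy i2 i4
    fun l l' h1 h2 => ⟨cancel l _ hxy ?_, cancel l' _ hxy ?_⟩
  · have := sub_mem h1 (Submodule.smul_mem _ l' hyy)
    rwa [add_sub_cancel_right] at this
  · have := sub_mem h2 (Submodule.smul_mem _ l hxx)
    rwa [add_sub_cancel_left] at this

/-- A symmetric local corner with cocentre of dimension at most five has dimension at most
eight. -/
theorem finrank_le_eight (h : SymLocal τ E R I) (hE : E ∉ I) {K : ℕ} (hK : K ≤ 5)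
    (hI : Module.finrank k I + 1 = Module.finrank k R)
    (hR : Module.finrank k R = Module.finrank k (comSub R) + K) : Module.finrank k R ≤ 8 := by
  have hcomm : comSub R = ⊥ → Module.finrank k R ≤ 8 := fun e => by
    rw [e, finrank_bot] at hR; omega
  by_cases h3 : I ^ 3 = ⊥
  · exact hcomm (h.comSub_eq_bot_of_cube h3)
  obtain ⟨j, hjne, hjtop⟩ := h.exists_top h3
  have hI2 : I ^ 2 ≤ I := h.pow_succ_le 1
  have hC2 : comSub R ≤ I ^ 2 := by rw [pow_two]; exact h.comSub_le_sq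
  have hsoc2 : I ^ (3 + j) ≤ I ^ 2 := h.pow_antitone (by omega) (by omega)
  obtain ⟨t, ht, ht0⟩ := Submodule.exists_mem_ne_zero_of_ne_bot hjne
  have hlt : Module.finrank k (comSub R) < Module.finrank k (comSub R ⊔ I ^ (3 + j) : Submodule k A) := by
    refine Submodule.finrank_lt_finrank_of_lt (lt_of_le_of_ne le_sup_left fun e => ht0 ?_)
    exact h.top_notMem_comSub (L := 3 + j) (by omega) hjtop ht (e ▸ Submodule.mem_sup_right ht)
  have hsup : comSub R ⊔ I ^ (3 + j) ≤ I ^ 2 := sup_le hC2 hsoc2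
  have hle2 := Submodule.finrank_mono (R := k) hsup
  have hI2d := Submodule.finrank_mono (R := k) hI2
  -- the central cases
  have hcen : ∀ U : Submodule k A, Module.finrank k U ≤ 1 → I ^ 3 ≤ U ⊔ I ^ 4 →
      Module.finrank k (I ^ 2 : Submodule k A) + 1 ≤ K := by
    intro U hU hle
    obtain ⟨u, hu⟩ := exists_span_of_finrank_le hU
    have hc := h.pow_le_cenPart (n := 1) (u := u) (hle.trans (sup_le_sup_right hu _))
    have hEc : E ∈ cenPart R := ⟨h.memE, fun r hr => by rw [h.left r hr, h.right r hr]⟩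
    refine le_trans ?_ (h.finrank_cenPart_le hR)
    exact Submodule.finrank_lt_finrank_of_lt (lt_of_le_of_ne hc fun e => hE (hI2 (e ▸ hEc)))
  have h2line : ∀ U : Submodule k A, Module.finrank k U ≤ 1 → I ^ 2 ≤ U ⊔ I ^ 3 →
      Module.finrank k R ≤ 8 := fun U hU hle => by
    obtain ⟨u, hu⟩ := exists_span_of_finrank_le hU
    exact hcomm (h.comSub_eq_bot_of_cyclic (hle.trans (sup_le_sup_right hu _)))
  rcases Nat.lt_or_ge (Module.finrank k I) (Module.finrank k (I ^ 2 : Submodule k A) + 2) with h1 | h2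
  · obtain ⟨x, hxI, hx⟩ : ∃ x ∈ I, I ≤ Submodule.span k {x} ⊔ I ^ 2 := by
      by_cases hsub : I ≤ I ^ 2
      · exact ⟨0, zero_mem _, hsub.trans le_sup_right⟩
      obtain ⟨x, hxI, hx2⟩ := SetLike.not_le_iff_exists.1 hsub
      refine ⟨x, hxI, (Submodule.eq_of_le_of_finrank_le
        (sup_le ((Submodule.span_singleton_le_iff_mem _ _).2 hxI) hI2) ?_).ge⟩
      have := Submodule.finrank_lt_finrank_of_lt (lt_of_le_of_ne
        (le_sup_right : I ^ 2 ≤ Submodule.span k {x} ⊔ I ^ 2)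
        fun e => hx2 (e ▸ Submodule.mem_sup_left (Submodule.mem_span_singleton_self x)))
      omega
    exact hcomm (h.comSub_eq_bot_of_gen hxI hx)
  by_cases hcu : ∃ U : Submodule k A, Module.finrank k U ≤ 1 ∧ I ^ 3 ≤ U ⊔ I ^ 4
  · obtain ⟨U, hU, hle⟩ := hcu
    have := hcen U hU hle
    omega
  push Not at hcu
  obtain ⟨m, rfl⟩ : ∃ m, j = m + 1 := Nat.exists_eq_add_one.2 (Nat.pos_of_ne_zero fun e => by
    subst e
    exact hcu (I ^ 3) (h.finrank_top_le (L := 3) (by omega) hjtop) le_sup_left)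
  rcases Nat.lt_or_ge (Module.finrank k I) (Module.finrank k (I ^ 2 : Submodule k A) + 3) with h2' | h3'
  swap
  · -- three generators
    exfalso
    obtain ⟨ι, G⟩ := h.exists_gen (r := 3) (by omega)
    have e : comSub R ⊔ I ^ (3 + (m + 1)) = I ^ 2 :=
      Submodule.eq_of_le_of_finrank_le hsup (by omega)
    refine h.false_of_three G (m := m) ?_ ?_ ?_ hcu
    · rwa [show m + 4 = 3 + (m + 1) by omega]
    · rwa [show m + 5 = 3 + (m + 1) + 1 by omega]
    · rw [show m + 4 = 3 + (m + 1) by omega]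
      exact e.ge
  obtain ⟨ι, G⟩ := h.exists_gen (r := 2) (by omega)
  by_cases hline : ∃ U : Submodule k A, Module.finrank k U ≤ 1 ∧ I ^ 2 ≤ U ⊔ I ^ 3
  · obtain ⟨U, hU, hle⟩ := hline
    exact h2line U hU hle
  push Not at hline
  -- a complement of the commutators and the socle in the square
  obtain ⟨s, hs, hsq⟩ : ∃ s ∈ I ^ 2, I ^ 2 ≤ comSub R ⊔ I ^ (3 + (m + 1)) ⊔ Submodule.span k {s} := by
    by_cases hsub : I ^ 2 ≤ comSub R ⊔ I ^ (3 + (m + 1))
    · exact ⟨0, zero_mem _, hsub.trans le_sup_left⟩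
    obtain ⟨s, hs, hs'⟩ := SetLike.not_le_iff_exists.1 hsub
    refine ⟨s, hs, (Submodule.eq_of_le_of_finrank_le
      (sup_le hsup ((Submodule.span_singleton_le_iff_mem _ _).2 hs)) ?_).ge⟩
    have := Submodule.finrank_lt_finrank_of_lt (lt_of_le_of_ne
      (le_sup_left : comSub R ⊔ I ^ (3 + (m + 1)) ≤ comSub R ⊔ I ^ (3 + (m + 1)) ⊔ Submodule.span k {s})
      fun e => hs' (e ▸ Submodule.mem_sup_right (Submodule.mem_span_singleton_self s)))
    omega
  have hS : ∃ S : Submodule k A, Module.finrank k S ≤ 2 ∧ I ^ 2 ≤ S ⊔ I ^ 3 := by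
    refine ⟨Submodule.span k {ι (Pi.single 0 1) * ι (Pi.single 1 1) - ι (Pi.single 1 1) * ι (Pi.single 0 1), s},
      (finrank_span_le_card _).trans (by
        rw [Set.toFinset_insert, Set.toFinset_singleton]; exact Finset.card_le_two), ?_⟩
    refine hsq.trans (sup_le (sup_le ?_ ((h.pow_antitone (by omega) (by omega)).trans le_sup_right)) ?_)
    · refine h.comSub_le_brk.trans (Submodule.span_le.2 ?_)
      rintro _ ⟨a, ha, b, hb, rfl⟩
      rw [pow_one] at hb
      obtain ⟨p, hp⟩ := G.dec a ha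
      obtain ⟨q, hq⟩ := G.dec b hb
      rw [SetLike.mem_coe, show a * b - b * a = (ι p * ι q - ι q * ι p)
        + ((ι p * (b - ι q) - (b - ι q) * ι p) + ((a - ι p) * b - b * (a - ι p))) by noncomm_ring]
      refine Submodule.add_mem_sup ?_
        (add_mem (brk_le 2 (brk_mem (G.mem p) hq)) (brk_le 2 (brk_mem' hb hp)))
      have hexp : ∀ p, ι p = p 0 • ι (Pi.single 0 1) + p 1 • ι (Pi.single 1 1) := fun p => by
        rw [← map_smul, ← map_smul, ← map_add]
        congr 1
        funext i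
        fin_cases i <;> simp
      rw [hexp p, hexp q]
      rw [show ∀ a b : A, (p 0 • a + p 1 • b) * (q 0 • a + q 1 • b) - (q 0 • a + q 1 • b) * (p 0 • a + p 1 • b)
          = (p 0 * q 1 - p 1 * q 0) • (a * b - b * a) from fun a b => by
        simp only [mul_add, add_mul, smul_mul_assoc, mul_smul_comm, smul_smul]; module]
      exact Submodule.smul_mem _ _ (Submodule.subset_span (Set.mem_insert _ _))
    · refine le_trans ?_ le_sup_left
      exact Submodule.span_mono (Set.subset_insert _ _)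
  obtain ⟨-, hshape⟩ := h.exists_shape G hS hline
  rcases Nat.eq_zero_or_pos m with rfl | hm
  · obtain ⟨S, hSd, hSle⟩ := hS
    obtain ⟨U, hUd, hUle⟩ := h.cube_cover G hshape
    have h4 := h.finrank_top_le (L := 4) (by omega) hjtop
    have e2 := Submodule.finrank_mono (R := k) hSle
    have e3 := Submodule.finrank_mono (R := k) hUle
    have s2 := Submodule.finrank_add_le_finrank_add_finrank S (I ^ 3 : Submodule k A)
    have s3 := Submodule.finrank_add_le_finrank_add_finrank U (I ^ 4 : Submodule k A)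
    omega
  · exfalso
    obtain ⟨n, rfl⟩ : ∃ n, m = n + 1 := Nat.exists_eq_add_one.2 hm
    refine h.false_of_two G (m := n) ?_ ?_ hs ?_ hline hcu
    · rwa [show n + 6 = 3 + (n + 1 + 1) + 1 by omega]
    · rwa [show n + 5 = 3 + (n + 1 + 1) by omega]
    · rwa [show n + 5 = 3 + (n + 1 + 1) by omega]

end SymLocal

end CfsgLib.Blocks.SymLocalCorner
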