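import Cfsg.Agent.Lib.Blocks.RankOneFrame
import Cfsg.Agent.Lib.Blocks.DefectBound
import Cfsg.Agent.Lib.Blocks.SmallCocentre.Bound

/-!
# Blocks with one Brauer character and at most five characters

The order of a defect group divides the dimension of the local corner, which is at most eight.
-/

set_option autoImplicit false
set_option linter.unusedSectionVars false
set_option maxHeartbeats 1000000
set_option synthInstance.maxHeartbeats 200000

namespace CfsgLib.Blocks.SmallCocentre

open Cfsg CfsgLib.Blocks.ResidueAlgebra CfsgLib.Blocks.TwoCharacters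
open CfsgLib.Blocks.RankOneFrame (Frame exists_lattice_rep exists_frame)
open scoped Classical
open LinearMap (mulLeft mulRight)

variable {G : Type*} [Group G] [Fintype G] {p : ℕ} {M : Ideal AlgInt}
variable (hM : IsPModular p M) {B : Set (IrrCharacter G)} (hB : IsPBlock M B)
include hM hB

/-- The size of the matrices divides every degree. -/
theorem dvd_degree (F : Frame hM B) {φ : IrrCharacter G} (hφ : φ ∈ B) :
    F.m ∣ charDegree (φ : G → ℂ) := by
  haveI := Fact.mk hM.1
  let k := Residue hM
  haveI : Module.Finite k (MonoidAlgebra k G) := Module.Finite.equiv (coord hM (G := G)).symm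
  obtain ⟨m, E, P, Q, I, hE, -, -, hQP, hsum, hPE, hEQ, heP, heE, -, -, -⟩ := F
  set e := idem hM B with hedef
  have hee := idem_mul_self hM hB
  obtain ⟨n, S, hS, hφS⟩ := exists_lattice_rep hM φ
  have hn : charDegree (φ : G → ℂ) = n := by
    have h1 := hφS 1
    rw [map_one, Matrix.trace_one, irr_one_eq, Fintype.card_fin] at h1
    exact_mod_cast h1
  rw [hn]
  let S₀ : G →* Matrix (Fin n) (Fin n) k :=
    { toFun := fun g => (S g).map (resid hM)
      map_one' := by
        ext i j
        rw [map_one, Matrix.map_apply, Matrix.one_apply, Matrix.one_apply]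
        split <;> [exact resid_one hM; exact resid_zero hM]
      map_mul' := fun g h => by
        ext i j
        rw [map_mul, Matrix.map_apply, Matrix.mul_apply,
          resid_sum hM _ fun l _ => LR.mul hM (hS g i l) (hS h l j), Matrix.mul_apply]
        exact Finset.sum_congr rfl fun l _ => resid_mul hM (hS g i l) (hS h l j) }
  let Φ₀ : MonoidAlgebra k G →ₐ[k] Matrix (Fin n) (Fin n) k :=
    MonoidAlgebra.lift k (Matrix (Fin n) (Fin n) k) G S₀
  let Z : Matrix (Fin n) (Fin n) ℂ := ∑ g, blockCoeff B g • S g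
  have hZ : ∀ i j, MemLocalRing M (Z i j) := fun i j => by
    simp only [Z, Matrix.sum_apply, Matrix.smul_apply, smul_eq_mul]
    exact LR.sum hM fun g _ => LR.mul hM (blockCoeff_LR hM hB g) (hS g i j)
  have hZZ : Z * Z = Z := by
    calc Z * Z = ∑ g, ∑ h, (blockCoeff B g * blockCoeff B h) • S (g * h) := by
          simp only [Z, Finset.sum_mul_sum, smul_mul_smul_comm, map_mul]
      _ = ∑ g, ∑ u, (blockCoeff B g * blockCoeff B (g⁻¹ * u)) • S u :=
          Finset.sum_congr rfl fun g _ =>
            Fintype.sum_equiv (Equiv.mulLeft g) _ _ fun h => by simp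
      _ = _ := by
          rw [Finset.sum_comm]
          refine Finset.sum_congr rfl fun u _ => ?_
          rw [← Finset.sum_smul, blockCoeff_conv, Set.inter_self]
  have htr : Z.trace = (n : ℂ) := by
    simp only [Z, Matrix.trace_sum, Matrix.trace_smul, smul_eq_mul, ← hφS]
    have h1 := omega_blockCoeff B φ
    rw [blockInd_of_mem hφ, omega] at h1
    rw [← hn, ← irr_one_eq]
    have h2 := irr_one_ne_zero φ
    field_simp at h1
    first | exact h1 | (rw [← h1]; exact Finset.sum_congr rfl fun g _ => by ring)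
  have hrank : (Z.map (resid hM)).rank = n := by
    have := rank_resid_eq hM Z hZ hZZ
    rw [htr] at this
    exact_mod_cast this
  have hΦe : Φ₀ e = Z.map (resid hM) := by
    show MonoidAlgebra.lift k _ G S₀ e = _
    rw [MonoidAlgebra.lift_apply, Finsupp.sum_fintype _ _ (by simp)]
    ext i j
    simp only [Z, Matrix.sum_apply, Matrix.smul_apply, smul_eq_mul, Matrix.map_apply]
    rw [resid_sum hM _ fun g _ => LR.mul hM (blockCoeff_LR hM hB g) (hS g i j)]
    refine Finset.sum_congr rfl fun g _ => ?_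
    rw [resid_mul hM (blockCoeff_LR hM hB g) (hS g i j), ← coeff_idem hM g]
    rfl
  have hone : Φ₀ e = 1 := by
    have hu : IsUnit (Φ₀ e) := by
      rw [hΦe, ← Matrix.mulVec_surjective_iff_isUnit]
      show Function.Surjective (Z.map (resid hM)).mulVecLin
      rw [← LinearMap.range_eq_top]
      refine Submodule.eq_top_of_finrank_eq ?_
      rw [Module.finrank_fin_fun]
      exact hrank
    exact hu.mul_left_cancel (by rw [mul_one, ← map_mul, hee])
  let Φ : MonoidAlgebra k G →ₐ[k] Module.End k (Fin n → k) :=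
    Matrix.toLinAlgEquiv'.toAlgHom.comp Φ₀
  have h3 := RankOneCorner.dvd_finrank Φ
    (show Φ e = 1 by show Matrix.toLinAlgEquiv' (Φ₀ e) = 1; rw [hone, map_one]) hQP hsum hEQ
  rwa [Module.finrank_fin_fun] at h3

/-- The degrees of the block in terms of its corner. -/
theorem sum_degree_sq (F : Frame hM B) :
    ∑ φ ∈ B.toFinset, charDegree (φ : G → ℂ) ^ 2
      = F.m ^ 2 * Module.finrank (Residue hM) (RankOneCorner.corner (Residue hM) F.E) := by
  haveI := Fact.mk hM.1
  haveI : Module.Finite (Residue hM) (MonoidAlgebra (Residue hM) G) :=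
    Module.Finite.equiv (coord hM (G := G)).symm
  have hdim := finrank_range_mulLeft hM hB
  rw [RankOneCorner.finrank_range_eq F.idemE (idem_commute hM (B := B)) (idem_mul_self hM hB) F.hQP
    F.hsum F.hPE F.hEQ F.heP] at hdim
  apply Nat.cast_injective (R := ℂ)
  push_cast at hdim ⊢
  rw [hdim]
  exact Finset.sum_congr rfl fun χ _ => by rw [irr_one_eq]

/-- A defect group of a block with one Brauer character and at most five characters has order at
most eight. -/
theorem pow_defect_le_eight (hl : blockRank p B = 1) (hk : Nat.card B ≤ 5) :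
    p ^ blockDefect p B ≤ 8 := by
  haveI := Fact.mk hM.1
  haveI := isAlgClosed_residue hM
  haveI : Module.Finite (Residue hM) (MonoidAlgebra (Residue hM) G) :=
    Module.Finite.equiv (coord hM (G := G)).symm
  obtain ⟨χ, hχ, h0⟩ := exists_degVal_eq_min (p := p) (IsPBlock.nonempty hM hB)
  have hone : IsPRegular p (1 : G) := by
    rw [IsPRegular, orderOf_one]; exact hM.1.not_dvd_one
  have hprop : ∀ φ ∈ B, ∀ g : G, IsPRegular p g →
      (φ : G → ℂ) g * (χ : G → ℂ) 1 = (φ : G → ℂ) 1 * (χ : G → ℂ) g := by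
    intro φ hφ g hg
    have hmem : ∀ ψ ∈ B, pRegularPart p (ψ : G → ℂ) ∈ Submodule.span ℂ
        ((fun ψ : IrrCharacter G => pRegularPart p (ψ : G → ℂ)) '' B) := fun ψ hψ =>
      Submodule.subset_span ⟨ψ, hψ, rfl⟩
    have hne : pRegularPart p (χ : G → ℂ) ≠ 0 := fun h => irr_one_ne_zero χ (by
      simpa [pRegularPart, hone] using congrFun h 1)
    obtain ⟨c, hc⟩ := (finrank_eq_one_iff_of_nonzero'
      (⟨_, hmem χ hχ⟩ : Submodule.span ℂ
        ((fun ψ : IrrCharacter G => pRegularPart p (ψ : G → ℂ)) '' B))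
      (fun h => hne (congrArg Subtype.val h))).1 hl ⟨_, hmem φ hφ⟩
    have hc' := congrArg Subtype.val hc
    have e1 := congrFun hc' 1
    have e2 := congrFun hc' g
    simp only [Submodule.coe_smul, Pi.smul_apply, smul_eq_mul, pRegularPart, if_pos hone,
      if_pos hg] at e1 e2
    rw [← e1, ← e2]
    ring
  obtain ⟨F⟩ := exists_frame hM hB hprop
  set r := Module.finrank (Residue hM) (RankOneCorner.corner (Residue hM) F.E) with hr
  have hr8 : r ≤ 8 := by
    obtain ⟨τ, hτ⟩ := F.loc
    exact hτ.finrank_le_eight F.notMem hk F.dimI F.dimR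
  have hrpos : 0 < r := by rw [hr, ← F.dimI]; omega
  set A := regInt p χ χ
  have hA0 : A ≠ 0 := regInt_ne_zero_of_min hM hB hχ h0 hχ
  set n := charDegree (χ : G → ℂ) with hn
  have hreg : ∀ φ ∈ B, regInt p χ φ * (n : ℤ) = A * (charDegree (φ : G → ℂ) : ℤ) := fun φ hφ => by
    apply Int.cast_injective (α := ℂ)
    push_cast
    rw [cast_regInt hM.1, cast_regInt hM.1, regInner, regInner, hn, ← irr_one_eq, ← irr_one_eq,
      mul_assoc _ _ ((χ : G → ℂ) 1), mul_assoc _ _ ((φ : G → ℂ) 1), Finset.sum_mul, Finset.sum_mul]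
    refine congrArg _ (Finset.sum_congr rfl fun g hg => ?_)
    have h1 := hprop φ hφ g⁻¹ (by
      have := (Finset.mem_filter.1 hg).2
      rwa [IsPRegular, orderOf_inv])
    linear_combination (χ : G → ℂ) g * h1
  have hsum : (∑ φ ∈ B.toFinset, (charDegree (φ : G → ℂ) : ℤ) ^ 2) * A
      = (pPartCard p G : ℤ) * (n : ℤ) ^ 2 := by
    have h := sum_regInt_sq hM hB hχ
    refine mul_right_cancel₀ hA0 ?_
    calc (∑ φ ∈ B.toFinset, (charDegree (φ : G → ℂ) : ℤ) ^ 2) * A * A
        = (∑ φ ∈ B.toFinset, regInt p χ φ ^ 2) * (n : ℤ) ^ 2 := by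
          rw [Finset.sum_mul, Finset.sum_mul, Finset.sum_mul]
          refine Finset.sum_congr rfl fun φ hφ => ?_
          rw [← mul_pow, hreg φ (Set.mem_toFinset.1 hφ)]
          ring
      _ = _ := by rw [h]; ring
  obtain ⟨⟨A', hA'⟩, hA''⟩ := regInt_exact_of_min hM hB hχ h0 hχ
  have hA'p : ¬ (p : ℤ) ∣ A' := fun hd => hA'' (by
    show _ ∣ A
    rw [show A = _ from hA', pow_succ]; exact mul_dvd_mul_left _ hd)
  obtain ⟨c, hc⟩ := dvd_degree hM hB F hχ
  set d := blockDefect p B
  set v := degVal p χ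
  have hd := blockDefect_add_min (p := p) (IsPBlock.nonempty hM hB)
  have hdv : (Nat.card G).factorization p = d + v := by omega
  have hkey : r * A'.natAbs = p ^ d * c ^ 2 := by
    have h3 := congrArg Int.natAbs hsum
    rw [show A = _ from hA', pPartCard, hdv,
      show (∑ φ ∈ B.toFinset, (charDegree (φ : G → ℂ) : ℤ) ^ 2)
        = ((∑ φ ∈ B.toFinset, charDegree (φ : G → ℂ) ^ 2 : ℕ) : ℤ) by push_cast; rfl,
      sum_degree_sq hM hB F, ← hr, hn, hc] at h3
    simp only [Int.natAbs_mul, Int.natAbs_pow, Int.natAbs_natCast, Nat.cast_pow] at h3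
    refine Nat.eq_of_mul_eq_mul_left (Nat.mul_pos (pow_pos F.pos 2) (pow_pos hM.1.pos v)) ?_
    calc F.m ^ 2 * p ^ v * (r * A'.natAbs) = F.m ^ 2 * r * (p ^ v * A'.natAbs) := by ring
      _ = p ^ (d + v) * (F.m * c) ^ 2 := h3
      _ = _ := by ring
  have hcop : Nat.Coprime (p ^ d) A'.natAbs := Nat.Coprime.pow_left _
    ((Nat.Prime.coprime_iff_not_dvd hM.1).2 fun h => hA'p (Int.natCast_dvd.2 h))
  have hdvd : p ^ d ∣ r := hcop.dvd_of_dvd_mul_right ⟨c ^ 2, hkey⟩
  exact (Nat.le_of_dvd hrpos hdvd).trans hr8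

/-- The possible defects of a block with one Brauer character and five characters. -/
theorem defect_cases (hl : blockRank p B = 1) (hk : Nat.card B = 5) :
    (p = 5 ∧ blockDefect p B = 1) ∨ (p = 7 ∧ blockDefect p B = 1) ∨
      (p = 2 ∧ blockDefect p B = 3) := by
  have h8 := pow_defect_le_eight hM hB hl hk.le
  have hp := hM.1.two_le
  set d := blockDefect p B with hd
  rcases Nat.lt_or_ge 2 d with h3 | h2
  · have h2d : 2 ^ d ≤ 8 := (Nat.pow_le_pow_left hp d).trans h8
    have hd3 : d = 3 := by
      by_contra h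
      have : 2 ^ 4 ≤ 2 ^ d := Nat.pow_le_pow_right (by norm_num) (by omega)
      omega
    rw [hd3] at h8
    refine Or.inr (Or.inr ⟨?_, hd3⟩)
    by_contra h
    have : 3 ^ 3 ≤ p ^ 3 := Nat.pow_le_pow_left (by omega) 3
    omega
  · have h := DefectBound.card_le_bound hM d G B hB hd.symm
    rw [if_pos h2, hk] at h
    have hp8 : p ≤ 8 := by
      rcases d with _ | d
      · simp at h
      · exact (Nat.le_self_pow (Nat.succ_ne_zero d) p).trans h8
    rcases d with _ | _ | _ | d
    · simp at h
    · simp only [zero_add, pow_one] at h h8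
      have := hM.1
      interval_cases p <;> first | exact Or.inl ⟨rfl, rfl⟩ | exact Or.inr (Or.inl ⟨rfl, rfl⟩) | norm_num at this
    · exfalso
      have h1 : 3 ≤ p := by
        by_contra h'
        have : p = 2 := by omega
        subst this
        norm_num at h
      have : 3 ^ 2 ≤ p ^ 2 := Nat.pow_le_pow_left h1 2
      rw [show (0 : ℕ) + 1 + 1 = 2 from rfl] at h8
      omega
    · omega

end CfsgLib.Blocks.SmallCocentre
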