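import Cfsg.Agent.Lib.Blocks.SymLocalCorner
import Mathlib.LinearAlgebra.Dual.Lemmas

/-!
# Central elements of a symmetric local corner

If a power of the radical is one-dimensional modulo the next, the preceding power is central
(Külshammer).
-/

set_option autoImplicit false
set_option linter.unusedSectionVars false

namespace CfsgLib.Blocks.SymLocalCorner

open scoped Classical
open LinearMap (mulLeft mulRight)

variable {k A : Type*} [Field k] [Ring A] [Algebra k A]

/-- The central elements of the corner. -/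
def cenPart (R : Submodule k A) : Submodule k A where
  carrier := {z | z ∈ R ∧ ∀ r ∈ R, z * r = r * z}
  add_mem' := fun {a b} ha hb => ⟨add_mem ha.1 hb.1, fun r hr => by
    rw [add_mul, mul_add, ha.2 r hr, hb.2 r hr]⟩
  zero_mem' := ⟨zero_mem R, fun r _ => by rw [zero_mul, mul_zero]⟩
  smul_mem' := fun c a ha => ⟨R.smul_mem c ha.1, fun r hr => by
    rw [smul_mul_assoc, mul_smul_comm, ha.2 r hr]⟩

variable [FiniteDimensional k A] {E : A} {R I : Submodule k A} {τ : A →ₗ[k] k}

namespace SymLocal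

variable (h : SymLocal τ E R I)
include h

theorem comSub_le : comSub R ≤ R := Submodule.span_le.2 (by
  rintro _ ⟨r, hr, s, hs, rfl⟩
  exact sub_mem (h.mul r hr s hs) (h.mul s hs r hr))

theorem pow_le_radical {n : ℕ} (hn : 1 ≤ n) : I ^ n ≤ I := by
  obtain ⟨m, rfl⟩ := Nat.exists_eq_add_of_le hn
  rw [add_comm]
  exact h.pow_succ_le m

theorem pow_antitone {n m : ℕ} (hn : 1 ≤ n) (hnm : n ≤ m) : I ^ m ≤ I ^ n := by
  induction m, hnm using Nat.le_induction with
  | base => exact le_rfl
  | succ m hnm ih =>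
    refine le_trans ?_ ih
    obtain ⟨j, rfl⟩ := Nat.exists_eq_add_of_le (hn.trans hnm)
    rw [show 1 + j + 1 = j + 2 by omega, show 1 + j = j + 1 by omega, pow_add, pow_two, pow_succ]
    exact Submodule.mul_le.2 fun a ha b hb => Submodule.mul_mem_mul ha (h.sq_le hb)

theorem mem_cenPart {z : A} (hz : z ∈ R) (hc : ∀ y ∈ I, z * y = y * z) : z ∈ cenPart R := by
  refine ⟨hz, fun r hr => ?_⟩
  obtain ⟨c, hcr⟩ := h.split r hr
  rw [show r = c • E + (r - c • E) by abel, mul_add, add_mul, mul_smul_comm, smul_mul_assoc,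
    h.left z hz, h.right z hz, hc _ hcr]

theorem tau_central {z c : A} (hz : z ∈ cenPart R) (hc : c ∈ comSub R) : τ (z * c) = 0 := by
  induction hc using Submodule.span_induction with
  | mem c hc =>
    obtain ⟨r, hr, s, hs, rfl⟩ := hc
    rw [mul_sub, map_sub, ← mul_assoc, ← mul_assoc, h.symm (z * s) r, ← mul_assoc r z s, hz.2 r hr,
      sub_self]
  | zero => rw [mul_zero, map_zero]
  | add x y _ _ hx hy => rw [mul_add, map_add, hx, hy, add_zero]
  | smul c x _ hx => rw [mul_smul_comm, map_smul, hx, smul_zero]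

/-- The centre is no larger than the cocentre. -/
theorem finrank_cenPart_le {K : ℕ}
    (hR : Module.finrank k R = Module.finrank k (comSub R) + K) :
    Module.finrank k (cenPart R) ≤ K := by
  let Ψ : cenPart R →ₗ[k] Module.Dual k R :=
    { toFun := fun z => τ ∘ₗ mulLeft k (z : A) ∘ₗ R.subtype
      map_add' := fun z w => LinearMap.ext fun r => by simp [add_mul]
      map_smul' := fun c z => LinearMap.ext fun r => by simp }
  have hinj : Function.Injective Ψ := by
    rw [← LinearMap.ker_eq_bot, Submodule.eq_bot_iff]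
    intro z hz
    by_contra hne
    obtain ⟨s, hs, hne'⟩ := h.nondeg z z.2.1 fun e => hne (Subtype.ext e)
    exact hne' (LinearMap.congr_fun (LinearMap.mem_ker.1 hz) ⟨s, hs⟩)
  set C' := (comSub R).comap R.subtype with hC'
  have hle : LinearMap.range Ψ ≤ C'.dualAnnihilator := by
    rintro _ ⟨z, rfl⟩
    rw [Submodule.mem_dualAnnihilator]
    intro w hw
    exact h.tau_central z.2 hw
  have h1 := Subspace.finrank_add_finrank_dualAnnihilator_eq C'
  have h2 : Module.finrank k C' = Module.finrank k (comSub R) :=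
    (Submodule.comapSubtypeEquivOfLe h.comSub_le).finrank_eq
  have h3 := Submodule.finrank_mono (R := k) hle
  rw [LinearMap.finrank_range_of_inj hinj] at h3
  omega

theorem exists_top {n : ℕ} (hn : I ^ n ≠ ⊥) :
    ∃ j, I ^ (n + j) ≠ ⊥ ∧ I ^ (n + j + 1) = ⊥ := by
  obtain ⟨N, hN⟩ := h.nil
  have hex : ∃ j, I ^ (n + j + 1) = ⊥ := ⟨N, by
    rw [show n + N + 1 = N + (n + 1) by omega, pow_add, hN, Submodule.bot_mul]⟩
  rcases hj : Nat.find hex with _ | j
  · exact ⟨0, hn, hj ▸ Nat.find_spec hex⟩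
  · exact ⟨j + 1, fun e => Nat.find_min hex (m := j) (by omega) e, hj ▸ Nat.find_spec hex⟩

theorem top_ann {L : ℕ} (htop : I ^ (L + 1) = ⊥) {s : A} (hs : s ∈ I ^ L) : ∀ y ∈ I, y * s = 0 :=
  fun y hy => by
    have h1 : y * s ∈ I ^ (L + 1) := by
      rw [pow_succ']
      exact Submodule.mul_mem_mul hy hs
    rwa [htop, Submodule.mem_bot] at h1

/-- The last nonzero power of the radical is a line. -/
theorem finrank_top_le {L : ℕ} (hL : 1 ≤ L) (htop : I ^ (L + 1) = ⊥) :
    Module.finrank k (I ^ L : Submodule k A) ≤ 1 := by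
  refine (LinearMap.finrank_le_finrank_of_injective (f := τ ∘ₗ (I ^ L).subtype) ?_).trans
    (Module.finrank_self k).le
  rw [← LinearMap.ker_eq_bot, Submodule.eq_bot_iff]
  intro s hs
  exact Subtype.ext (h.eq_zero (h.le (h.pow_le_radical hL s.2)) (h.top_ann htop s.2)
    (LinearMap.mem_ker.1 hs))

theorem top_notMem_comSub {L : ℕ} (hL : 1 ≤ L) (htop : I ^ (L + 1) = ⊥) {s : A} (hs : s ∈ I ^ L)
    (hC : s ∈ comSub R) : s = 0 :=
  h.eq_zero_of_comSub (h.le (h.pow_le_radical hL hs)) hC (h.top_ann htop hs)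

/-- A power of the radical that is cyclic modulo the next is spanned by powers of one element. -/
theorem exists_power {n : ℕ} {u : A}
    (hu : I ^ (n + 2) ≤ Submodule.span k {u} ⊔ I ^ (n + 3)) (hne : I ^ (n + 3) ≠ ⊥) :
    ∃ v ∈ I, I ^ (n + 2) ≤ Submodule.span k {v ^ (n + 2)} ⊔ I ^ (n + 3) := by
  have hspans : ∀ x ∈ I ^ (n + 2), x ∉ I ^ (n + 3) →
      I ^ (n + 2) ≤ Submodule.span k {x} ⊔ I ^ (n + 3) := by
    intro x hx hx'
    obtain ⟨y, hy, z, hz, hyz⟩ := Submodule.mem_sup.1 (hu hx)
    obtain ⟨c, rfl⟩ := Submodule.mem_span_singleton.1 hy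
    have hc : c ≠ 0 := fun e => hx' (by rw [← hyz, e, zero_smul, zero_add]; exact hz)
    refine hu.trans (sup_le ((Submodule.span_singleton_le_iff_mem _ _).2 ?_) le_sup_right)
    rw [show u = c⁻¹ • x + -(c⁻¹ • z) by
      rw [← hyz, smul_add, smul_smul, inv_mul_cancel₀ hc, one_smul, add_neg_cancel_right]]
    exact Submodule.add_mem_sup (Submodule.smul_mem _ _ (Submodule.mem_span_singleton_self _))
      (neg_mem (Submodule.smul_mem _ _ hz))
  have hnotle : ¬ I ^ (n + 2) ≤ I ^ (n + 3) := fun e => hne (le_bot_iff.1 (by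
    have e' := h.le_succ_eq_bot (n := n + 1) e
    exact (h.pow_antitone (n := n + 2) (by omega) (by omega)).trans (le_of_eq e')))
  have fact : ∀ a ∈ I, ∀ w ∈ I ^ n, ∀ b ∈ I, a * w * b ∉ I ^ (n + 3) →
      a * (a * w) ∉ I ^ (n + 3) := by
    intro a ha w hw b hb hnot hin
    refine hne (h.le_succ_eq_bot (n := n + 2) ?_)
    have hawb : a * w * b ∈ I ^ (n + 2) := by
      rw [pow_succ, pow_succ']
      exact Submodule.mul_mem_mul (Submodule.mul_mem_mul ha hw) hb
    have hS := hspans _ hawb hnot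
    show I ^ (n + 3) ≤ I ^ (n + 4)
    rw [pow_succ I (n + 2)]
    refine Submodule.mul_le.2 fun x hx c hc => ?_
    obtain ⟨x₁, hx₁, z, hz, rfl⟩ := Submodule.mem_sup.1 (hS hx)
    obtain ⟨l, rfl⟩ := Submodule.mem_span_singleton.1 hx₁
    rw [add_mul, smul_mul_assoc]
    refine add_mem (Submodule.smul_mem _ _ ?_) (by
      rw [pow_succ I (n + 3)]; exact Submodule.mul_mem_mul hz hc)
    have hwbc : w * b * c ∈ I ^ (n + 2) := by
      rw [pow_succ, pow_succ]
      exact Submodule.mul_mem_mul (Submodule.mul_mem_mul hw hb) hc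
    obtain ⟨y₁, hy₁, z', hz', e⟩ := Submodule.mem_sup.1 (hS hwbc)
    obtain ⟨l', rfl⟩ := Submodule.mem_span_singleton.1 hy₁
    rw [mul_assoc, mul_assoc, ← mul_assoc w, ← e, mul_add, mul_smul_comm]
    refine add_mem (Submodule.smul_mem _ _ ?_) (by
      rw [pow_succ' I (n + 3)]; exact Submodule.mul_mem_mul ha hz')
    rw [← mul_assoc a (a * w) b, pow_succ I (n + 3)]
    exact Submodule.mul_mem_mul hin hb
  -- a factor that can be split off
  have hsplit : ∀ (x : A) (m : ℕ), (∃ g ∈ I ^ (m + 1), x * g ∉ I ^ (n + 3)) →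
      ∃ g ∈ I ^ m, ∃ b ∈ I, x * g * b ∉ I ^ (n + 3) := by
    rintro x m ⟨g, hg, hxg⟩
    by_contra hno
    push Not at hno
    rw [pow_succ] at hg
    refine hxg ?_
    clear hxg
    induction hg using Submodule.mul_induction_on' with
    | mem_mul_mem a ha b hb => rw [← mul_assoc]; exact hno a ha b hb
    | add a _ b _ iha ihb => rw [mul_add]; exact add_mem iha ihb
  have hstart : ∃ a ∈ I, ∃ g ∈ I ^ n, ∃ b ∈ I, a * g * b ∉ I ^ (n + 3) := by
    by_contra hno
    push Not at hno
    refine hnotle ?_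
    rw [show I ^ (n + 2) = I * I ^ (n + 1) by rw [← pow_succ']]
    refine Submodule.mul_le.2 fun a ha g hg => ?_
    by_contra hag
    obtain ⟨g', hg', b, hb, hnot⟩ := hsplit a n ⟨g, hg, hag⟩
    exact hnot (hno a ha g' hg' b hb)
  obtain ⟨a, ha, g, hg, b, hb, hagb⟩ := hstart
  have hiter : ∀ j m, j + m = n → ∃ g ∈ I ^ m, ∃ b ∈ I, a * (a ^ j * g) * b ∉ I ^ (n + 3) := by
    intro j
    induction j with
    | zero =>
      rintro m hm
      rw [zero_add] at hm
      subst hm
      exact ⟨g, hg, b, hb, by rwa [pow_zero, one_mul]⟩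
    | succ j ih =>
      intro m hm
      obtain ⟨g, hg, b, hb, hnot⟩ := ih (m + 1) (by omega)
      have hw : a ^ j * g ∈ I ^ n := by
        rw [← show j + (m + 1) = n by omega, pow_add]
        exact Submodule.mul_mem_mul (Submodule.pow_mem_pow I ha j) hg
      have h2 := fact a ha _ hw b hb hnot
      rw [← mul_assoc a (a ^ j), ← pow_succ', ← mul_assoc] at h2
      obtain ⟨g', hg', b', hb', h3⟩ := hsplit (a * a ^ (j + 1)) m ⟨g, hg, h2⟩
      exact ⟨g', hg', b', hb', by rwa [← mul_assoc]⟩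
  obtain ⟨g₀, hg₀, b₀, hb₀, hnot⟩ := hiter n 0 (by omega)
  rw [pow_zero, Submodule.one_eq_span, Submodule.mem_span_singleton] at hg₀
  obtain ⟨c, rfl⟩ := hg₀
  have h2 := fact a ha _ (by
    rw [mul_smul_comm, mul_one]
    exact Submodule.smul_mem _ c (Submodule.pow_mem_pow I ha n)) b₀ hb₀ hnot
  refine ⟨a, ha, hspans _ (Submodule.pow_mem_pow I ha _) fun hin => h2 ?_⟩
  rw [mul_smul_comm, mul_one, mul_smul_comm, mul_smul_comm, ← pow_succ', ← pow_succ']
  exact Submodule.smul_mem _ c hin

/-- If a power of the radical is cyclic modulo the next, the preceding power is central. -/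
theorem pow_le_cenPart {n : ℕ} {u : A}
    (hu : I ^ (n + 2) ≤ Submodule.span k {u} ⊔ I ^ (n + 3)) : I ^ (n + 1) ≤ cenPart R := by
  intro z hz
  refine h.mem_cenPart (h.le (h.pow_succ_le n hz)) fun c hc => sub_eq_zero.1 ?_
  have hzR := h.le (h.pow_succ_le n hz)
  have hcz : c * z ∈ I ^ (n + 2) := by
    rw [pow_succ']; exact Submodule.mul_mem_mul hc hz
  have hzc : z * c ∈ I ^ (n + 2) := by
    rw [pow_succ]; exact Submodule.mul_mem_mul hz hc
  by_cases hbot : I ^ (n + 3) = ⊥
  · exact h.top_notMem_comSub (L := n + 2) (by omega) hbot (sub_mem hzc hcz)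
      (comSub_comm hzR (h.le hc))
  obtain ⟨v, hv, hv2⟩ := h.exists_power hu hbot
  have hlayer : ∀ m, n + 2 ≤ m → I ^ m ≤ Submodule.span k {v ^ m} ⊔ I ^ (m + 1) := by
    intro m hm
    induction m, hm using Nat.le_induction with
    | base => exact hv2
    | succ m hm ih =>
      rw [pow_succ I m]
      refine Submodule.mul_le.2 fun x hx y hy => ?_
      obtain ⟨x₁, hx₁, w, hw, rfl⟩ := Submodule.mem_sup.1 (ih hx)
      obtain ⟨l, rfl⟩ := Submodule.mem_span_singleton.1 hx₁
      rw [add_mul, smul_mul_assoc]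
      refine add_mem (Submodule.smul_mem _ _ ?_) (Submodule.mem_sup_right (by
        rw [pow_succ I (m + 1)]; exact Submodule.mul_mem_mul hw hy))
      obtain ⟨j, rfl⟩ := Nat.exists_eq_add_of_le (show 1 ≤ m by omega)
      rw [show v ^ (1 + j) * y = v * (v ^ j * y) by rw [pow_add, pow_one, mul_assoc]]
      have hvy : v ^ j * y ∈ I ^ (1 + j) := by
        rw [add_comm, pow_succ]; exact Submodule.mul_mem_mul (Submodule.pow_mem_pow I hv j) hy
      obtain ⟨y₁, hy₁, w', hw', e⟩ := Submodule.mem_sup.1 (ih hvy)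
      obtain ⟨l', rfl⟩ := Submodule.mem_span_singleton.1 hy₁
      rw [← e, mul_add, mul_smul_comm]
      refine add_mem (Submodule.smul_mem _ _ (Submodule.mem_sup_left ?_)) (Submodule.mem_sup_right ?_)
      · rw [← pow_succ']
        exact Submodule.mem_span_singleton_self _
      · rw [pow_succ' I (1 + j + 1)]
        exact Submodule.mul_mem_mul hv hw'
  have hall : ∀ j, I ^ (n + 2) ≤ powSpan k v (n + 2) ⊔ I ^ (n + 2 + j) := fun j => by
    induction j with
    | zero => exact le_sup_right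
    | succ j ih =>
      refine ih.trans (sup_le le_sup_left ((hlayer _ (by omega)).trans (sup_le ?_ le_sup_right)))
      refine ((Submodule.span_singleton_le_iff_mem _ _).2 ?_).trans le_sup_left
      exact Submodule.subset_span ⟨j, by rw [show n + 2 + j = j + (n + 2) by omega]⟩
  have hP : I ^ (n + 2) ≤ powSpan k v (n + 2) := by
    obtain ⟨N, hN⟩ := h.nil
    refine (hall N).trans (sup_le le_rfl ?_)
    rw [pow_add, hN, Submodule.mul_bot]
    exact bot_le
  have hdec : ∀ x ∈ powSpan k v (n + 2), ∃ g ∈ powSpan k v 1, x = v ^ (n + 1) * g := by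
    intro x hx
    have : x ∈ (powSpan k v 1).map (mulLeft k (v ^ (n + 1))) := by
      rw [powSpan, Submodule.map_span]
      refine (Submodule.span_mono ?_) hx
      rintro _ ⟨j, rfl⟩
      exact ⟨v ^ (j + 1), ⟨j, rfl⟩, by
        rw [LinearMap.mulLeft_apply, ← pow_add, show n + 1 + (j + 1) = j + (n + 2) by omega]⟩
    obtain ⟨g, hg, rfl⟩ := this
    exact ⟨g, hg, rfl⟩
  -- elements of `I` annihilating
  have kill : ∀ d ∈ I ^ (n + 2), d ∈ comSub R → v * d = 0 → d = 0 := by
    intro d hd hdC hvd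
    refine h.eq_zero_of_comSub (h.le (h.pow_succ_le (n + 1) hd)) hdC fun y hy => ?_
    obtain ⟨e, -, he⟩ := hdec d (hP hd)
    obtain ⟨g, hg, hgy⟩ := hdec (y * v ^ (n + 1))
      (hP (by rw [pow_succ']; exact Submodule.mul_mem_mul hy (Submodule.pow_mem_pow I hv _)))
    have hgd : g * d = 0 := by
      clear hgy
      induction hg using Submodule.span_induction with
      | mem x hx =>
        obtain ⟨j, rfl⟩ := hx
        show v ^ (j + 1) * d = 0
        rw [pow_succ, mul_assoc, hvd, mul_zero]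
      | zero => exact zero_mul d
      | add a b _ _ ha hb => rw [add_mul, ha, hb, add_zero]
      | smul c a _ ha => rw [smul_mul_assoc, ha, smul_zero]
    rw [he, ← mul_assoc, hgy, ← ((commute_powSpan hg).pow_left (n + 1)).symm.eq, mul_assoc, ← he,
      hgd]
  have hvp : ∀ x ∈ I ^ (n + 2), v * x = x * v := fun x hx => (commute_powSpan (hP hx)).eq
  have hvn : v ^ (n + 1) ∈ I ^ (n + 1) := Submodule.pow_mem_pow I hv _
  have hcv : c * v ^ (n + 1) = v ^ (n + 1) * c := by
    have hp : c * v ^ (n + 1) ∈ I ^ (n + 2) := by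
      rw [pow_succ']; exact Submodule.mul_mem_mul hc hvn
    have hq : v ^ (n + 1) * c ∈ I ^ (n + 2) := by
      rw [pow_succ]; exact Submodule.mul_mem_mul hvn hc
    set d := c * v ^ (n + 1) - v ^ (n + 1) * c with hd
    have hdI : ∀ j, v ^ j * d ∈ I ^ (n + 2) := fun j => by
      rcases Nat.eq_zero_or_pos j with rfl | hj
      · rw [pow_zero, one_mul]; exact sub_mem hp hq
      · refine h.pow_antitone (n := n + 2) (m := j + (n + 2)) (by omega) (by omega) ?_
        rw [pow_add]
        exact Submodule.mul_mem_mul (Submodule.pow_mem_pow I hv j) (sub_mem hp hq)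
    have hdC : ∀ j, v ^ j * d ∈ comSub R := fun j => by
      rcases Nat.eq_zero_or_pos j with rfl | hj
      · rw [pow_zero, one_mul]
        exact comSub_comm (h.le hc) (h.le (h.pow_succ_le n hvn))
      have e : v ^ j * d = v ^ j * c * v ^ (n + 1) - v ^ (n + 1) * (v ^ j * c) := by
        rw [hd, mul_sub, ← mul_assoc, ← mul_assoc, ← mul_assoc, ← pow_add, ← pow_add, add_comm j (n + 1)]
      rw [e]
      exact comSub_comm (h.mul _ (h.le (h.pow_le_radical hj (Submodule.pow_mem_pow I hv j))) _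
        (h.le hc)) (h.le (h.pow_succ_le n hvn))
    have hzero : v ^ (n + 1) * d = 0 := by
      have e1 : v ^ (n + 1) * (c * v ^ (n + 1)) = c * v ^ (n + 1) * v ^ (n + 1) :=
        ((commute_powSpan (hP hp)).pow_left (n + 1)).eq
      have e2 : v ^ (n + 1) * (v ^ (n + 1) * c) = v ^ (n + 1) * c * v ^ (n + 1) :=
        ((commute_powSpan (hP hq)).pow_left (n + 1)).eq
      rw [hd, mul_sub, e2, ← mul_assoc (v ^ (n + 1)) c, sub_self]
    have hdown : ∀ j, v ^ j * d = 0 → d = 0 := by
      intro j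
      induction j with
      | zero => intro e; rwa [pow_zero, one_mul] at e
      | succ j ih =>
        intro e
        exact ih (kill _ (hdI j) (hdC j) (by rwa [← mul_assoc, ← pow_succ']))
    exact sub_eq_zero.1 (hdown _ hzero)
  have hcP : ∀ x ∈ I ^ (n + 2), c * x = x * c := by
    have hpow : ∀ j, n + 2 ≤ j → c * v ^ j = v ^ j * c := by
      intro j hj
      induction j, hj using Nat.le_induction with
      | base =>
        have hp : c * v ^ (n + 1) ∈ I ^ (n + 2) := by
          rw [pow_succ']; exact Submodule.mul_mem_mul hc hvn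
        rw [pow_succ v (n + 1), ← mul_assoc, ← hvp _ hp, hcv, ← mul_assoc, ← pow_succ', pow_succ]
      | succ j hj ih =>
        have hp : c * v ^ j ∈ I ^ (n + 2) := h.pow_antitone (n := n + 2) (m := j + 1) (by omega)
          (by omega) (by rw [pow_succ']; exact Submodule.mul_mem_mul hc (Submodule.pow_mem_pow I hv j))
        rw [pow_succ v j, ← mul_assoc, ← hvp _ hp, ih, ← mul_assoc, ← pow_succ', pow_succ]
    intro x hx
    have hx' := hP hx
    clear hx
    induction hx' using Submodule.span_induction with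
    | mem x hx => obtain ⟨j, rfl⟩ := hx; exact hpow _ (by omega)
    | zero => rw [mul_zero, zero_mul]
    | add a b _ _ ha hb => rw [mul_add, add_mul, ha, hb]
    | smul l a _ ha => rw [mul_smul_comm, smul_mul_assoc, ha]
  have hvz : v * z = z * v := by
    have hvz' : v * z ∈ I ^ (n + 2) := by
      rw [pow_succ']; exact Submodule.mul_mem_mul hv hz
    have hzv : z * v ∈ I ^ (n + 2) := by
      rw [pow_succ]; exact Submodule.mul_mem_mul hz hv
    refine sub_eq_zero.1 (kill _ (sub_mem hvz' hzv) (comSub_comm (h.le hv) hzR) ?_)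
    rw [mul_sub, hvp _ hvz', mul_assoc, sub_self]
  refine kill _ (sub_mem hzc hcz) (comSub_comm hzR (h.le hc)) ?_
  have hzv : z * v ∈ I ^ (n + 2) := by
    rw [pow_succ]; exact Submodule.mul_mem_mul hz hv
  rw [mul_sub, ← mul_assoc v z c, hvz, ← hcP _ hzv, hvp _ hcz, mul_assoc, sub_self]

end SymLocal

end CfsgLib.Blocks.SymLocalCorner
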