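import Cfsg.Agent.Lib.Blocks.SmallCocentre.Central
import Mathlib.Tactic.NoncommRing

/-!
# Layers of the radical of a symmetric local corner
-/

set_option autoImplicit false
set_option linter.unusedSectionVars false

namespace CfsgLib.Blocks.SymLocalCorner

open scoped Classical
open LinearMap (mulLeft mulRight)

variable {k A : Type*} [Field k] [Ring A] [Algebra k A]

/-- Generators of the radical, independent modulo its square. -/
structure Gen (I : Submodule k A) {r : ℕ} (ι : (Fin r → k) →ₗ[k] A) : Prop where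
  mem : ∀ v, ι v ∈ I
  inj : ∀ v, ι v ∈ I ^ 2 → v = 0
  dec : ∀ a ∈ I, ∃ v, a - ι v ∈ I ^ 2

/-- Congruence modulo a submodule. -/
def Cong (N : Submodule k A) (x y : A) : Prop := x - y ∈ N

theorem Cong.refl {N : Submodule k A} (x : A) : Cong N x x := by
  rw [Cong, sub_self]; exact zero_mem _

theorem Cong.symm {N : Submodule k A} {x y : A} (h : Cong N x y) : Cong N y x := by
  rw [Cong, ← neg_sub]; exact neg_mem h

theorem Cong.trans {N : Submodule k A} {x y z : A} (h : Cong N x y) (h' : Cong N y z) :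
    Cong N x z := by
  rw [Cong, show x - z = (x - y) + (y - z) by abel]; exact add_mem h h'

variable {I : Submodule k A}

theorem Cong.mul_left {n : ℕ} {a x y : A} (ha : a ∈ I) (h : Cong (I ^ n) x y) :
    Cong (I ^ (n + 1)) (a * x) (a * y) := by
  rw [Cong, ← mul_sub, pow_succ']; exact Submodule.mul_mem_mul ha h

theorem Cong.mul_right {n : ℕ} {a x y : A} (ha : a ∈ I) (h : Cong (I ^ n) x y) :
    Cong (I ^ (n + 1)) (x * a) (y * a) := by
  rw [Cong, ← sub_mul, pow_succ]; exact Submodule.mul_mem_mul h ha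

/-- The kernel of the pairing between two powers. -/
def pairKer (τ : A →ₗ[k] k) (I : Submodule k A) (j : ℕ) : Submodule k A where
  carrier := {i | ∀ y ∈ I ^ j, τ (i * y) = 0}
  add_mem' := fun ha hb y hy => by rw [add_mul, map_add, ha y hy, hb y hy, add_zero]
  zero_mem' := fun y _ => by rw [zero_mul, map_zero]
  smul_mem' := fun c a ha y hy => by rw [smul_mul_assoc, map_smul, ha y hy, smul_zero]

/-- The brackets of the radical with a power of it. -/
def brk (I : Submodule k A) (n : ℕ) : Submodule k A :=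
  Submodule.span k {z | ∃ a ∈ I, ∃ b ∈ I ^ n, a * b - b * a = z}

theorem brk_mem {n : ℕ} {a b : A} (ha : a ∈ I) (hb : b ∈ I ^ n) : a * b - b * a ∈ brk I n :=
  Submodule.subset_span ⟨a, ha, b, hb, rfl⟩

theorem brk_mem' {n : ℕ} {a b : A} (ha : a ∈ I) (hb : b ∈ I ^ n) : b * a - a * b ∈ brk I n := by
  rw [← neg_sub]; exact neg_mem (brk_mem ha hb)

theorem brk_le (n : ℕ) : brk I n ≤ I ^ (n + 1) := by
  refine Submodule.span_le.2 ?_
  rintro _ ⟨a, ha, b, hb, rfl⟩
  refine sub_mem ?_ ?_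
  · rw [pow_succ']; exact Submodule.mul_mem_mul ha hb
  · rw [pow_succ]; exact Submodule.mul_mem_mul hb ha

/-- A functional symmetric on products kills the brackets. -/
theorem map_brk {n : ℕ} (φ : A →ₗ[k] k) (hφ : ∀ a ∈ I, ∀ b ∈ I ^ n, φ (a * b) = φ (b * a)) {z : A}
    (hz : z ∈ brk I n) : φ z = 0 := by
  have : brk I n ≤ LinearMap.ker φ := Submodule.span_le.2 (by
    rintro _ ⟨a, ha, b, hb, rfl⟩
    rw [SetLike.mem_coe, LinearMap.mem_ker, map_sub, hφ a ha b hb, sub_self])
  exact this hz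

/-- A bracket of squares is a bracket with the cube. -/
theorem sq_bracket {a b : A} (ha : a ∈ I ^ 2) (hb : b ∈ I ^ 2) : a * b - b * a ∈ brk I 3 := by
  rw [pow_two] at ha
  induction ha using Submodule.mul_induction_on' with
  | mem_mul_mem x hx y hy =>
    have h1 : x * (y * b) - (y * b) * x ∈ brk I 3 :=
      brk_mem hx (by rw [pow_succ']; exact Submodule.mul_mem_mul hy hb)
    have h2 : y * (b * x) - (b * x) * y ∈ brk I 3 :=
      brk_mem hy (by rw [pow_succ]; exact Submodule.mul_mem_mul hb hx)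
    have := add_mem h1 h2
    rwa [show x * (y * b) - y * b * x + (y * (b * x) - b * x * y) = x * y * b - b * (x * y) by
      noncomm_ring] at this
  | add x _ y _ ihx ihy =>
    rw [show (x + y) * b - b * (x + y) = (x * b - b * x) + (y * b - b * y) by noncomm_ring]
    exact add_mem ihx ihy

/-- A lift of a subspace of a quotient of small dimension. -/
theorem exists_lift_submodule [FiniteDimensional k A] {V : Type*} [AddCommGroup V] [Module k V]
    [FiniteDimensional k V] (f : V →ₗ[k] A) (N : Submodule k A) :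
    ∃ S : Submodule k A, S ≤ LinearMap.range f ∧
      Module.finrank k S ≤ Module.finrank k (LinearMap.range (N.mkQ ∘ₗ f)) ∧
      ∀ v, f v ∈ S ⊔ N := by
  obtain ⟨C₀, hC₀⟩ := Submodule.exists_isCompl (LinearMap.ker (N.mkQ ∘ₗ f))
  refine ⟨C₀.map f, LinearMap.map_le_range, ?_, fun v => ?_⟩
  · refine (Submodule.finrank_map_le f C₀).trans (le_of_eq ?_)
    have h1 := Submodule.finrank_add_eq_of_isCompl hC₀
    have h2 := LinearMap.finrank_range_add_finrank_ker (N.mkQ ∘ₗ f)
    omega
  · have hv : v ∈ LinearMap.ker (N.mkQ ∘ₗ f) ⊔ C₀ := hC₀.sup_eq_top ▸ Submodule.mem_top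
    obtain ⟨x, hx, y, hy, rfl⟩ := Submodule.mem_sup.1 hv
    rw [map_add, add_comm]
    exact Submodule.add_mem_sup ⟨y, hy, rfl⟩ ((Submodule.Quotient.mk_eq_zero N).1 hx)

/-- The product of two maps, modulo a submodule. -/
def mulMap {V : Type*} [AddCommGroup V] [Module k V] (f g : V →ₗ[k] A) (N : Submodule k A) :
    V →ₗ[k] V →ₗ[k] A ⧸ N :=
  LinearMap.mk₂ k (fun p q => N.mkQ (f p * g q))
    (fun p p' q => by rw [map_add, add_mul, map_add])
    (fun c p q => by rw [map_smul, smul_mul_assoc, map_smul])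
    (fun p q q' => by rw [map_add, mul_add, map_add])
    (fun c p q => by rw [map_smul, mul_smul_comm, map_smul])

@[simp] theorem mulMap_apply {V : Type*} [AddCommGroup V] [Module k V] (f g : V →ₗ[k] A)
    (N : Submodule k A) (p q : V) : mulMap f g N p q = N.mkQ (f p * g q) := rfl

theorem mkQ_eq_iff {N : Submodule k A} {x y : A} : N.mkQ x = N.mkQ y ↔ Cong N x y :=
  Submodule.Quotient.eq N

variable [FiniteDimensional k A] {E : A} {R : Submodule k A} {τ : A →ₗ[k] k}

/-- A submodule of dimension at most one is a line. -/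
theorem exists_span_of_finrank_le {U : Submodule k A} (hU : Module.finrank k U ≤ 1) :
    ∃ u, U ≤ Submodule.span k {u} := by
  by_cases h : U = ⊥
  · exact ⟨0, h ▸ bot_le⟩
  obtain ⟨u, hu, hu0⟩ := Submodule.exists_mem_ne_zero_of_ne_bot h
  refine ⟨u, (Submodule.eq_of_le_of_finrank_le ((Submodule.span_singleton_le_iff_mem _ _).2 hu) ?_).ge⟩
  rw [finrank_span_singleton hu0]
  exact hU

namespace SymLocal

variable (h : SymLocal τ E R I)
include h

theorem comSub_le_brk : comSub R ≤ brk I 1 := by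
  refine Submodule.span_le.2 ?_
  rintro _ ⟨r, hr, s, hs, rfl⟩
  obtain ⟨c, hc⟩ := h.split r hr
  obtain ⟨d, hd⟩ := h.split s hs
  have e : r * s - s * r = (r - c • E) * (s - d • E) - (s - d • E) * (r - c • E) := by
    simp only [sub_mul, mul_sub, smul_mul_assoc, mul_smul_comm, h.left r hr, h.right r hr,
      h.left s hs, h.right s hs, h.left E h.memE, smul_sub, smul_smul, mul_comm c d]
    abel
  rw [SetLike.mem_coe, e]
  exact brk_mem hc (by rwa [pow_one])

theorem exists_gen {r : ℕ}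
    (hr : Module.finrank k I = r + Module.finrank k (I ^ 2 : Submodule k A)) :
    ∃ ι : (Fin r → k) →ₗ[k] A, Gen I ι := by
  set N := (I ^ 2 : Submodule k A).comap I.subtype with hN
  have hNd : Module.finrank k N = Module.finrank k (I ^ 2 : Submodule k A) :=
    (Submodule.comapSubtypeEquivOfLe (h.pow_succ_le 1)).finrank_eq
  have hQ : Module.finrank k (I ⧸ N) = r := by
    have := N.finrank_quotient_add_finrank
    omega
  let b := Module.finBasisOfFinrankEq k (I ⧸ N) hQ
  choose x hx using fun i => N.mkQ_surjective (b i)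
  let ι : (Fin r → k) →ₗ[k] I := Fintype.linearCombination k x
  have hι : ∀ v, N.mkQ (ι v) = ∑ i, v i • b i := fun v => by
    simp [ι, Fintype.linearCombination_apply, map_sum, ← hx]
  refine ⟨I.subtype ∘ₗ ι, fun v => (ι v).2, fun v hv => ?_, fun a ha => ?_⟩
  · have h1 : N.mkQ (ι v) = 0 := (Submodule.Quotient.mk_eq_zero N).2 hv
    rw [hι] at h1
    funext i
    exact Fintype.linearIndependent_iff.1 b.linearIndependent v h1 i
  · refine ⟨fun i => b.repr (N.mkQ ⟨a, ha⟩) i, ?_⟩
    have h1 : N.mkQ (ι fun i => b.repr (N.mkQ ⟨a, ha⟩) i) = N.mkQ ⟨a, ha⟩ := by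
      rw [hι, b.sum_repr]
    exact (Submodule.Quotient.eq N).1 h1.symm

theorem mem_top_of_ann {L : ℕ} (hL : 1 ≤ L) (hne : I ^ L ≠ ⊥) (htop : I ^ (L + 1) = ⊥) {s : A}
    (hs : s ∈ R) (hann : ∀ y ∈ I, y * s = 0) : s ∈ I ^ L := by
  obtain ⟨t, ht, ht0⟩ := Submodule.exists_mem_ne_zero_of_ne_bot hne
  have htR := h.le (h.pow_le_radical hL ht)
  have hτt : τ t ≠ 0 := fun e => ht0 (h.eq_zero htR (h.top_ann htop ht) e)
  have : s - (τ s / τ t) • t = 0 := h.eq_zero (sub_mem hs (R.smul_mem _ htR))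
    (fun y hy => by rw [mul_sub, hann y hy, mul_smul_comm, h.top_ann htop ht y hy, smul_zero, sub_zero])
    (by rw [map_sub, map_smul, smul_eq_mul, div_mul_cancel₀ _ hτt, sub_self])
  rw [sub_eq_zero.1 this]
  exact Submodule.smul_mem _ _ ht

/-- The form is symmetric, so a pairing kernel absorbs the powers of the radical on both sides. -/
theorem pairKer_mul {j i : ℕ} {n y : A} (hn : n ∈ pairKer τ I (i + j)) (hy : y ∈ I ^ i) :
    n * y ∈ pairKer τ I j ∧ y * n ∈ pairKer τ I j := by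
  refine ⟨fun z hz => ?_, fun z hz => ?_⟩
  · rw [mul_assoc]
    exact hn _ (by rw [pow_add]; exact Submodule.mul_mem_mul hy hz)
  · rw [mul_assoc, h.symm, mul_assoc]
    exact hn _ (by rw [add_comm, pow_add]; exact Submodule.mul_mem_mul hz hy)

theorem le_pairKer {L n j : ℕ} (htop : I ^ (L + 1) = ⊥) (hnj : L < n + j) :
    I ^ n ≤ pairKer τ I j := fun i hi y hy => by
  have hmem : i * y ∈ I ^ (n + j) := by rw [pow_add]; exact Submodule.mul_mem_mul hi hy
  have h0 := h.pow_antitone (n := L + 1) (by omega) hnj hmem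
  rw [htop, Submodule.mem_bot] at h0
  rw [h0, map_zero]

variable {r : ℕ} {ι : (Fin r → k) →ₗ[k] A}

theorem prod_cong (G : Gen I ι) {a b : A} (ha : a ∈ I) (hb : b ∈ I) :
    ∃ p q, Cong (I ^ 3) (a * b) (ι p * ι q) := by
  obtain ⟨p, hp⟩ := G.dec a ha
  obtain ⟨q, hq⟩ := G.dec b hb
  exact ⟨p, q, (Cong.mul_right hb hp).trans (Cong.mul_left (G.mem p) hq)⟩

/-- The square is spanned by products of generators modulo the cube. -/
theorem sq_le_of_products (G : Gen I ι) (X : Submodule k A) (hX3 : I ^ 3 ≤ X)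
    (hX : ∀ p q, ι p * ι q ∈ X) : I ^ 2 ≤ X := by
  rw [pow_two]
  refine Submodule.mul_le.2 fun a ha b hb => ?_
  obtain ⟨p, q, hpq⟩ := h.prod_cong G ha hb
  have := add_mem (hX3 hpq) (hX p q)
  rwa [sub_add_cancel] at this

/-- A cover of the square on the left covers every power. -/
theorem cover_left (G : Gen I ι) {a : Fin r → k}
    (hcov : I ^ 2 ≤ LinearMap.range (mulLeft k (ι a) ∘ₗ ι) ⊔ I ^ 3) (n : ℕ) :
    I ^ (n + 2) ≤ LinearMap.range (mulLeft k (ι a ^ (n + 1)) ∘ₗ ι) ⊔ I ^ (n + 3) := by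
  induction n with
  | zero => simpa using hcov
  | succ n ih =>
    rw [pow_succ I (n + 2)]
    refine Submodule.mul_le.2 fun x hx c hc => ?_
    obtain ⟨_, ⟨v, rfl⟩, z, hz, rfl⟩ := Submodule.mem_sup.1 (ih hx)
    rw [add_mul]
    refine add_mem ?_ (Submodule.mem_sup_right (by
      rw [pow_succ I (n + 3)]; exact Submodule.mul_mem_mul hz hc))
    show ι a ^ (n + 1) * ι v * c ∈ _
    rw [mul_assoc]
    obtain ⟨_, ⟨w, rfl⟩, z', hz', e⟩ := Submodule.mem_sup.1
      (hcov (show ι v * c ∈ I ^ 2 by rw [pow_two]; exact Submodule.mul_mem_mul (G.mem v) hc))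
    rw [← e, mul_add]
    refine add_mem (Submodule.mem_sup_left ⟨w, ?_⟩) (Submodule.mem_sup_right ?_)
    · show ι a ^ (n + 1 + 1) * ι w = ι a ^ (n + 1) * (ι a * ι w)
      rw [pow_succ _ (n + 1), mul_assoc]
    · rw [show n + 1 + 3 = (n + 1) + 3 from rfl, pow_add]
      exact Submodule.mul_mem_mul (Submodule.pow_mem_pow I (G.mem a) _) hz'

/-- A cover of the square on the right covers every power. -/
theorem cover_right (G : Gen I ι) {a : Fin r → k}
    (hcov : I ^ 2 ≤ LinearMap.range (mulRight k (ι a) ∘ₗ ι) ⊔ I ^ 3) (n : ℕ) :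
    I ^ (n + 2) ≤ LinearMap.range (mulRight k (ι a ^ (n + 1)) ∘ₗ ι) ⊔ I ^ (n + 3) := by
  induction n with
  | zero => simpa using hcov
  | succ n ih =>
    rw [pow_succ' I (n + 2)]
    refine Submodule.mul_le.2 fun c hc x hx => ?_
    obtain ⟨_, ⟨v, rfl⟩, z, hz, rfl⟩ := Submodule.mem_sup.1 (ih hx)
    rw [mul_add]
    refine add_mem ?_ (Submodule.mem_sup_right (by
      rw [pow_succ' I (n + 3)]; exact Submodule.mul_mem_mul hc hz))
    show c * (ι v * ι a ^ (n + 1)) ∈ _
    rw [← mul_assoc]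
    obtain ⟨_, ⟨w, rfl⟩, z', hz', e⟩ := Submodule.mem_sup.1
      (hcov (show c * ι v ∈ I ^ 2 by rw [pow_two]; exact Submodule.mul_mem_mul hc (G.mem v)))
    rw [← e, add_mul]
    refine add_mem (Submodule.mem_sup_left ⟨w, ?_⟩) (Submodule.mem_sup_right ?_)
    · show ι w * ι a ^ (n + 1 + 1) = ι w * ι a * ι a ^ (n + 1)
      rw [pow_succ' _ (n + 1), mul_assoc]
    · rw [show n + 1 + 3 = 3 + (n + 1) by omega, pow_add]
      exact Submodule.mul_mem_mul hz' (Submodule.pow_mem_pow I (G.mem a) _)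

end SymLocal

end CfsgLib.Blocks.SymLocalCorner
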