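import Mathlib.LinearAlgebra.Matrix.Basis
import Mathlib.LinearAlgebra.Determinant
import Mathlib.LinearAlgebra.Dual.Lemmas
import Mathlib.LinearAlgebra.FiniteDimensional.Lemmas
import Mathlib.Algebra.Polynomial.Roots

/-!
# Pencils of singular maps

Bilinear maps all whose one-sided multiplications are of small rank.
-/

set_option autoImplicit false
set_option linter.unusedSectionVars false

namespace CfsgLib.Blocks.SmallCocentre

open scoped Classical

variable {k V W : Type*} [Field k] [AddCommGroup V] [Module k V] [AddCommGroup W] [Module k W]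

section Perturb

variable [FiniteDimensional k W]

/-- A basis stays one under all but finitely many perturbations. -/
theorem finite_bad {n : ℕ} (hn : Module.finrank k W = n) {v : Fin n → W}
    (hv : LinearIndependent k v) (w : Fin n → W) :
    {t : k | ¬ LinearIndependent k fun i => v i + t • w i}.Finite := by
  let b : Module.Basis (Fin n) k W := Module.finBasisOfFinrankEq k W hn
  let P : Polynomial k := Matrix.det (Matrix.of fun i j =>
    Polynomial.C (b.repr (v j) i) + Polynomial.X * Polynomial.C (b.repr (w j) i))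
  have heval : ∀ t : k, P.eval t = b.det fun i => v i + t • w i := fun t => by
    rw [Module.Basis.det_apply]
    show Polynomial.evalRingHom t P = _
    rw [RingHom.map_det]
    congr 1
    ext i j
    rw [RingHom.mapMatrix_apply, Matrix.map_apply, Matrix.of_apply, Module.Basis.toMatrix_apply, map_add (f := b.repr), map_smul, Finsupp.add_apply, Finsupp.smul_apply, smul_eq_mul, Polynomial.coe_evalRingHom, Polynomial.eval_add, Polynomial.eval_mul, Polynomial.eval_X, Polynomial.eval_C, Polynomial.eval_C]
  have hiff : ∀ u : Fin n → W, LinearIndependent k u ↔ b.det u ≠ 0 := fun u => by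
    rw [← isUnit_iff_ne_zero, ← Module.Basis.is_basis_iff_det]
    exact ⟨fun h => ⟨h, h.span_eq_top_of_card_eq_finrank' (by simp [hn])⟩, fun h => h.1⟩
  have hP : P ≠ 0 := fun h => by
    have h1 := heval 0
    rw [h, Polynomial.eval_zero] at h1
    refine (hiff v).1 hv ?_
    simpa using h1.symm
  refine (Polynomial.finite_setOfPred_isRoot hP).subset fun t ht => ?_
  show P.eval t = 0
  rw [heval]
  by_contra h
  exact ht ((hiff _).2 h)

theorem surjective_of_indep {n : ℕ} (hn : Module.finrank k W = n) {v : Fin n → W}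
    (hv : LinearIndependent k v) (T : V →ₗ[k] W) (h : ∀ i, v i ∈ LinearMap.range T) :
    Function.Surjective T := by
  rw [← LinearMap.range_eq_top, eq_top_iff, ← hv.span_eq_top_of_card_eq_finrank' (by simp [hn])]
  exact Submodule.span_le.2 (Set.range_subset_iff.2 h)

/-- The first-order condition at a singular element of corank one. -/
theorem derivative [Infinite k] (μ : V →ₗ[k] V →ₗ[k] W) (hW : Module.finrank k W = 3)
    (hsing : ∀ x, ¬ Function.Surjective (μ x)) {a b e : V}
    (hrank : Module.finrank k (LinearMap.range (μ a)) = 2) (he : μ a e = 0) :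
    μ b e ∈ LinearMap.range (μ a) := by
  by_contra hne
  let c : Module.Basis (Fin 2) k (LinearMap.range (μ a)) := Module.finBasisOfFinrankEq k _ hrank
  choose f hf using fun i => (c i).2
  have hli : LinearIndependent k ![μ a (f 0), μ a (f 1), μ b e] := by
    have h2 : LinearIndependent k (fun i => (c i : W)) :=
      c.linearIndependent.map' (LinearMap.range (μ a)).subtype (Submodule.ker_subtype _)
    rw [Fintype.linearIndependent_iff]
    intro g hg
    simp only [Fin.sum_univ_three, Matrix.cons_val_zero, Matrix.cons_val_one, Matrix.cons_val] at hg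
    have hg2 : g 2 = 0 := by
      by_contra hg2
      refine hne ?_
      have e1 : μ b e = (g 2)⁻¹ • (-(g 0 • μ a (f 0) + g 1 • μ a (f 1))) := by
        rw [neg_eq_of_add_eq_zero_right hg, smul_smul, inv_mul_cancel₀ hg2, one_smul]
      rw [e1]
      exact Submodule.smul_mem _ _ (neg_mem (add_mem (Submodule.smul_mem _ _ ⟨_, rfl⟩)
        (Submodule.smul_mem _ _ ⟨_, rfl⟩)))
    rw [hg2, zero_smul, add_zero, hf, hf] at hg
    have h3 := Fintype.linearIndependent_iff.1 h2 ![g 0, g 1] (by simpa [Fin.sum_univ_two] using hg)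
    intro i
    fin_cases i
    · exact h3 0
    · exact h3 1
    · exact hg2
  obtain ⟨t, ht⟩ := ((finite_bad hW hli ![μ b (f 0), μ b (f 1), 0]).union
    (Set.finite_singleton (0 : k))).exists_notMem
  simp only [Set.mem_union, Set.mem_ofPred_eq, Set.mem_singleton_iff, not_or, not_not] at ht
  refine hsing (a + t • b) (surjective_of_indep hW ht.1 _ fun i => ?_)
  fin_cases i
  · exact ⟨f 0, by simp⟩
  · exact ⟨f 1, by simp⟩
  · exact ⟨t⁻¹ • e, by simp [he, ht.2, smul_smul]⟩

end Perturb

/-- A family of maps of rank at most one with no common kernel has a common image. -/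
theorem common_image (μ : V →ₗ[k] V →ₗ[k] W) (hV : 2 ≤ Module.finrank k V)
    [FiniteDimensional k V] [FiniteDimensional k W]
    (hl : ∀ v, μ v = 0 → v = 0) (hr : ∀ v, μ.flip v = 0 → v = 0)
    (h1 : ∀ x, Module.finrank k (LinearMap.range (μ x)) ≤ 1) :
    ∃ L : Submodule k W, Module.finrank k L ≤ 1 ∧ ∀ x y, μ x y ∈ L := by
  haveI : Nontrivial V := Module.nontrivial_of_finrank_pos (R := k) (by omega)
  obtain ⟨a, ha⟩ := exists_ne (0 : V)
  have hlne : ∀ x, x ≠ 0 → Module.finrank k (LinearMap.range (μ x)) = 1 := fun x hx => by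
    refine le_antisymm (h1 x) (Nat.one_le_iff_ne_zero.2 fun h0 => hx (hl x ?_))
    exact LinearMap.range_eq_bot.1 (Submodule.finrank_eq_zero.1 h0)
  by_cases hall : ∀ x y, μ x y ∈ LinearMap.range (μ a)
  · exact ⟨_, h1 a, hall⟩
  exfalso
  push Not at hall
  obtain ⟨b, y₀, hb⟩ := hall
  have hker : ∀ x, x ≠ 0 → LinearMap.range (μ x) ≠ LinearMap.range (μ a) →
      LinearMap.ker (μ a) ≤ LinearMap.ker (μ x) := by
    intro x hx hne v hv
    by_contra hxv
    obtain ⟨w, hw⟩ : ∃ w, μ a w ≠ 0 := by
      by_contra h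
      push Not at h
      exact ha (hl a (LinearMap.ext fun w => by simpa using h w))
    have hline : ∀ z : V, z ≠ 0 → ∀ u, u ≠ 0 → u ∈ LinearMap.range (μ z) →
        LinearMap.range (μ z) = Submodule.span k {u} := fun z hz u hu hmem => by
      refine (Submodule.eq_of_le_of_finrank_le ((Submodule.span_singleton_le_iff_mem _ _).2 hmem) ?_).symm
      rw [hlne z hz, finrank_span_singleton hu]
    have hv' : μ a v = 0 := hv
    by_cases hax : a + x = 0
    · refine hne ?_
      rw [eq_neg_of_add_eq_zero_right hax, map_neg, LinearMap.range_neg]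
    have m1 : μ x v ∈ LinearMap.range (μ (a + x)) := ⟨v, by rw [map_add, LinearMap.add_apply, hv', zero_add]⟩
    have hx0 : μ x v ≠ 0 := hxv
    have e1 := hline x hx _ hx0 ⟨v, rfl⟩
    have e2 := hline (a + x) hax _ hx0 m1
    refine hne (e1.trans (hline a ha _ hx0 ?_).symm)
    have m2 : μ (a + x) w - μ x w ∈ LinearMap.range (μ x) :=
      sub_mem (e1 ▸ e2 ▸ LinearMap.mem_range_self _ _) ⟨w, rfl⟩
    rw [map_add, LinearMap.add_apply, add_sub_cancel_right, e1] at m2
    obtain ⟨c, hc⟩ := Submodule.mem_span_singleton.1 m2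
    have hc0 : c ≠ 0 := fun h => hw (by rw [← hc, h, zero_smul])
    exact ⟨c⁻¹ • w, by rw [map_smul, ← hc, smul_smul, inv_mul_cancel₀ hc0, one_smul]⟩
  have hb0 : b ≠ 0 := fun h => hb (by rw [h, map_zero, LinearMap.zero_apply]; exact zero_mem _)
  have hbne : LinearMap.range (μ b) ≠ LinearMap.range (μ a) := fun h => hb (h ▸ ⟨y₀, rfl⟩)
  -- every map kills the kernel at `a`
  have hkill : ∀ x, LinearMap.ker (μ a) ≤ LinearMap.ker (μ x) := by
    intro x v hv
    show μ x v = 0
    by_cases hx : x = 0
    · simp [hx]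
    by_cases hxe : LinearMap.range (μ x) = LinearMap.range (μ a)
    · have h2 : LinearMap.range (μ (x + b)) ≠ LinearMap.range (μ a) := fun h => hb (by
        have h3 : μ (x + b) y₀ ∈ LinearMap.range (μ a) := h ▸ ⟨y₀, rfl⟩
        rw [map_add, LinearMap.add_apply] at h3
        have h4 : μ x y₀ ∈ LinearMap.range (μ a) := hxe ▸ ⟨y₀, rfl⟩
        simpa using sub_mem h3 h4)
      have hxb : x + b ≠ 0 := fun h => hbne (by
        rw [eq_neg_of_add_eq_zero_right h, map_neg, LinearMap.range_neg, hxe])
      have e1 : μ (x + b) v = 0 := hker _ hxb h2 hv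
      have e2 : μ b v = 0 := hker _ hb0 hbne hv
      rw [map_add, LinearMap.add_apply, e2, add_zero] at e1
      exact e1
    · exact hker x hx hxe hv
  have hk : 0 < Module.finrank k (LinearMap.ker (μ a)) := by
    have := LinearMap.finrank_range_add_finrank_ker (μ a)
    have := h1 a
    omega
  obtain ⟨v, hv, hv0⟩ := Submodule.exists_mem_ne_zero_of_ne_bot
    (fun h => by rw [h, finrank_bot] at hk; exact lt_irrefl _ hk : LinearMap.ker (μ a) ≠ ⊥)
  exact hv0 (hr v (LinearMap.ext fun x => hkill x hv))

/-- Either a map of rank at least two exists or the image is a line. -/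
theorem exists_rank_two (μ : V →ₗ[k] V →ₗ[k] W) (hV : 2 ≤ Module.finrank k V)
    [FiniteDimensional k V] [FiniteDimensional k W]
    (hl : ∀ v, μ v = 0 → v = 0) (hr : ∀ v, μ.flip v = 0 → v = 0)
    (hspan : ∀ L : Submodule k W, (∀ x y, μ x y ∈ L) → L = ⊤) (hW : 2 ≤ Module.finrank k W) :
    ∃ a, 2 ≤ Module.finrank k (LinearMap.range (μ a)) := by
  by_contra h
  push Not at h
  obtain ⟨L, hL, hmem⟩ := common_image μ hV hl hr fun x => Nat.lt_succ_iff.1 (h x)
  rw [hspan L hmem, finrank_top] at hL
  omega

theorem surjective_of_rank [FiniteDimensional k W] (T : V →ₗ[k] W)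
    (h : Module.finrank k W ≤ Module.finrank k (LinearMap.range T)) : Function.Surjective T := by
  rw [← LinearMap.range_eq_top]
  exact Submodule.eq_top_of_finrank_eq (le_antisymm (Submodule.finrank_le _) h)

/-- In dimension two there is an element with both multiplications bijective. -/
theorem exists_two [Infinite k] [FiniteDimensional k V] [FiniteDimensional k W]
    (μ : V →ₗ[k] V →ₗ[k] W) (hV : Module.finrank k V = 2) (hW : Module.finrank k W = 2)
    (hl : ∀ v, μ v = 0 → v = 0) (hr : ∀ v, μ.flip v = 0 → v = 0)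
    (hspan : ∀ L : Submodule k W, (∀ x y, μ x y ∈ L) → L = ⊤) :
    ∃ a, Function.Surjective (μ a) ∧ Function.Surjective (μ.flip a) := by
  obtain ⟨a, ha⟩ := exists_rank_two μ hV.ge hl hr hspan hW.ge
  obtain ⟨b, hb⟩ := exists_rank_two μ.flip hV.ge hr hl
    (fun L h => hspan L fun x y => h y x) hW.ge
  have ha' := surjective_of_rank (μ a) (hW.le.trans ha)
  have hb' := surjective_of_rank (μ.flip b) (hW.le.trans hb)
  let bV : Module.Basis (Fin 2) k V := Module.finBasisOfFinrankEq k V hV
  have hli : ∀ T : V →ₗ[k] W, Function.Surjective T → LinearIndependent k fun i => T (bV i) :=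
    fun T hT => bV.linearIndependent.map' T (LinearMap.ker_eq_bot.2
      ((LinearMap.injective_iff_surjective_of_finrank_eq_finrank (hV.trans hW.symm)).2 hT))
  have f1 := finite_bad hW (hli _ ha') fun i => μ b (bV i)
  have f2 := finite_bad hW (hli _ hb') fun i => μ.flip a (bV i)
  obtain ⟨t, ht⟩ := ((f1.union (f2.image fun s => s⁻¹)).union (Set.finite_singleton (0 : k))).exists_notMem
  simp only [Set.mem_union, Set.mem_ofPred_eq, Set.mem_singleton_iff, Set.mem_image, not_or,
    not_not, not_exists, not_and] at ht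
  obtain ⟨⟨t1, t2⟩, t0⟩ := ht
  refine ⟨a + t • b, surjective_of_indep hW t1 _ fun i => ⟨bV i, by simp⟩, ?_⟩
  have h2 : LinearIndependent k fun i => μ.flip b (bV i) + t⁻¹ • μ.flip a (bV i) := by
    by_contra h
    exact t2 _ h (inv_inv t)
  refine surjective_of_indep hW h2 _ fun i => ⟨t⁻¹ • bV i, ?_⟩
  simp [smul_smul, t0, add_comm]

end CfsgLib.Blocks.SmallCocentre
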