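import Cfsg.Agent.Lib.Blocks.SmallCocentre.Layers
import Cfsg.Agent.Lib.Blocks.SmallCocentre.Singular
import Cfsg.Agent.Lib.Blocks.SmallCocentre.Twisted
import Mathlib.Tactic.NoncommRing

/-!
# Corners with two generators

The layers have dimension at most two and the fifth power of the radical vanishes as soon as the
commutators and the socle have codimension at most one in the square.
-/

set_option autoImplicit false
set_option linter.unusedSectionVars false
set_option maxHeartbeats 1000000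

namespace CfsgLib.Blocks.SymLocalCorner

open scoped Classical
open LinearMap (mulLeft mulRight)
open SmallCocentre

variable {k A : Type*} [Field k] [IsAlgClosed k] [Ring A] [Algebra k A] [FiniteDimensional k A]
  {E : A} {R I : Submodule k A} {τ : A →ₗ[k] k}

/-- The element with all products to it, or from it, degenerate, or a regular element. -/
def Shape2 (I : Submodule k A) (ι : (Fin 2 → k) →ₗ[k] A) : Prop :=
  (∃ (f : Fin 2 → k) (α : (Fin 2 → k) →ₗ[k] k), α f = 1 ∧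
      ∀ x v, Cong (I ^ 3) (ι x * ι v) (α v • (ι x * ι f))) ∨
  (∃ (f : Fin 2 → k) (α : (Fin 2 → k) →ₗ[k] k), α f = 1 ∧
      ∀ x v, Cong (I ^ 3) (ι v * ι x) (α v • (ι f * ι x))) ∨
  ∃ a, (∀ p q, ∃ v, Cong (I ^ 3) (ι p * ι q) (ι a * ι v)) ∧
    ∀ v, ι v * ι a ∈ I ^ 3 → v = 0

namespace SymLocal

variable (h : SymLocal τ E R I)
include h

theorem exists_shape {ι : (Fin 2 → k) →ₗ[k] A} (G : Gen I ι)
    (hS : ∃ S : Submodule k A, Module.finrank k S ≤ 2 ∧ I ^ 2 ≤ S ⊔ I ^ 3)
    (hno : ∀ U : Submodule k A, Module.finrank k U ≤ 1 → ¬ I ^ 2 ≤ U ⊔ I ^ 3) :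
    Module.finrank k ((I ^ 2).map (I ^ 3).mkQ) = 2 ∧ Shape2 I ι := by
  set D := (I ^ 2).map (I ^ 3).mkQ with hD
  have hD2 : Module.finrank k D = 2 := by
    refine le_antisymm ?_ ?_
    · obtain ⟨S, hS, hle⟩ := hS
      refine le_trans (Submodule.finrank_mono (t := S.map (I ^ 3).mkQ) ?_)
        ((Submodule.finrank_map_le _ _).trans hS)
      rintro _ ⟨i, hi, rfl⟩
      obtain ⟨s, hs, t, ht, rfl⟩ := Submodule.mem_sup.1 (hle hi)
      exact ⟨s, hs, by rw [map_add, show (I ^ 3).mkQ t = 0 from (Submodule.Quotient.mk_eq_zero _).2 ht, add_zero]⟩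
    · by_contra hlt
      obtain ⟨S, -, hSd, hSc⟩ := exists_lift_submodule (I ^ 2).subtype (I ^ 3)
      have : Module.finrank k (LinearMap.range ((I ^ 3).mkQ ∘ₗ (I ^ 2).subtype))
          ≤ Module.finrank k D := Submodule.finrank_mono (by
        rintro _ ⟨v, rfl⟩; exact ⟨_, v.2, rfl⟩)
      exact hno S (by omega) fun i hi => hSc ⟨i, hi⟩
  refine ⟨hD2, ?_⟩
  have hprod : ∀ p q, ι p * ι q ∈ I ^ 2 := fun p q => by
    rw [pow_two]; exact Submodule.mul_mem_mul (G.mem p) (G.mem q)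
  let μ : (Fin 2 → k) →ₗ[k] (Fin 2 → k) →ₗ[k] D := LinearMap.mk₂ k
    (fun p q => ⟨mulMap ι ι (I ^ 3) p q, ⟨_, hprod p q, rfl⟩⟩)
    (fun p p' q => Subtype.ext (by simp only [map_add, LinearMap.add_apply]; rfl))
    (fun c p q => Subtype.ext (by simp only [map_smul, LinearMap.smul_apply]; rfl))
    (fun p q q' => Subtype.ext (by simp only [map_add]; rfl))
    (fun c p q => Subtype.ext (by simp only [map_smul]; rfl))
  have hcong : ∀ p q p' q', μ p q = μ p' q' → Cong (I ^ 3) (ι p * ι q) (ι p' * ι q') :=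
    fun p q p' q' e => mkQ_eq_iff.1 (congrArg Subtype.val e)
  have hV2 : Module.finrank k (Fin 2 → k) = 2 := Module.finrank_fin_fun k
  -- coordinates along a nonzero vector
  have coord : ∀ e : Fin 2 → k, e ≠ 0 → ∃ (f : Fin 2 → k) (α : (Fin 2 → k) →ₗ[k] k),
      α f = 1 ∧ ∀ v, ∃ c : k, v = α v • f + c • e := by
    intro e he
    obtain ⟨C₀, hC₀⟩ := Submodule.exists_isCompl (k ∙ e)
    have hC1 : Module.finrank k C₀ = 1 := by
      have := Submodule.finrank_add_eq_of_isCompl hC₀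
      rw [finrank_span_singleton he, hV2] at this
      omega
    let b := Module.finBasisOfFinrankEq k C₀ hC1
    let π := Submodule.projectionOnto C₀ (k ∙ e) hC₀.symm
    refine ⟨b 0, b.coord 0 ∘ₗ π, ?_, fun v => ?_⟩
    · show b.repr (π (b 0 : Fin 2 → k)) 0 = 1
      rw [show π (b 0 : Fin 2 → k) = b 0 from Submodule.projectionOnto_apply_left hC₀.symm (b 0),
        Module.Basis.repr_self, Finsupp.single_eq_same]
    · have hv : v ∈ C₀ ⊔ (k ∙ e) := hC₀.symm.sup_eq_top ▸ Submodule.mem_top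
      obtain ⟨c₀, hc₀, c', hc', rfl⟩ := Submodule.mem_sup.1 hv
      obtain ⟨c, rfl⟩ := Submodule.mem_span_singleton.1 hc'
      refine ⟨c, ?_⟩
      show _ = b.repr (π (c₀ + c • e)) 0 • (b 0 : Fin 2 → k) + c • e
      rw [map_add, map_smul, show π c₀ = ⟨c₀, hc₀⟩ from
          Submodule.projectionOnto_apply_left hC₀.symm ⟨c₀, hc₀⟩,
        show π e = 0 from Submodule.projectionOnto_apply_right hC₀.symm
          ⟨e, Submodule.mem_span_singleton_self e⟩, smul_zero, add_zero]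
      have h1 := congrArg Subtype.val (b.sum_repr ⟨c₀, hc₀⟩)
      simp only [Fin.sum_univ_one, Submodule.coe_smul] at h1
      rw [h1]
  by_cases hr : ∃ e, e ≠ 0 ∧ μ.flip e = 0
  · obtain ⟨e, he, hμe⟩ := hr
    obtain ⟨f, α, hαf, hdec⟩ := coord e he
    refine Or.inl ⟨f, α, hαf, fun x v => ?_⟩
    obtain ⟨c, hc⟩ := hdec v
    have h0 : ι x * ι e ∈ I ^ 3 := (Submodule.Quotient.mk_eq_zero _).1
      (congrArg Subtype.val (LinearMap.congr_fun hμe x))
    have hv : ι v = α v • ι f + c • ι e := by rw [← map_smul, ← map_smul, ← map_add, ← hc]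
    rw [Cong, hv, mul_add, mul_smul_comm, mul_smul_comm, add_sub_cancel_left]
    exact Submodule.smul_mem _ _ h0
  by_cases hl : ∃ e, e ≠ 0 ∧ μ e = 0
  · obtain ⟨e, he, hμe⟩ := hl
    obtain ⟨f, α, hαf, hdec⟩ := coord e he
    refine Or.inr (Or.inl ⟨f, α, hαf, fun x v => ?_⟩)
    obtain ⟨c, hc⟩ := hdec v
    have h0 : ι e * ι x ∈ I ^ 3 := (Submodule.Quotient.mk_eq_zero _).1
      (congrArg Subtype.val (LinearMap.congr_fun hμe x))
    have hv : ι v = α v • ι f + c • ι e := by rw [← map_smul, ← map_smul, ← map_add, ← hc]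
    rw [Cong, hv, add_mul, smul_mul_assoc, smul_mul_assoc, add_sub_cancel_left]
    exact Submodule.smul_mem _ _ h0
  push Not at hr hl
  have hspan : ∀ L : Submodule k D, (∀ p q, μ p q ∈ L) → L = ⊤ := by
    intro L hL
    have hX : I ^ 2 ≤ (L.map D.subtype).comap (I ^ 3).mkQ := h.sq_le_of_products G _
      (fun i hi => by
        show (I ^ 3).mkQ i ∈ L.map D.subtype
        rw [show (I ^ 3).mkQ i = 0 from (Submodule.Quotient.mk_eq_zero _).2 hi]
        exact zero_mem _)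
      fun p q => ⟨μ p q, hL p q, rfl⟩
    rw [eq_top_iff]
    rintro ⟨_, i, hi, rfl⟩ -
    obtain ⟨d, hd, e⟩ := hX hi
    have hde : d = ⟨(I ^ 3).mkQ i, i, hi, rfl⟩ := Subtype.ext e
    exact hde ▸ hd
  haveI : Infinite k := IsAlgClosed.instInfinite
  obtain ⟨a, haL, haR⟩ := exists_two μ hV2 hD2
    (fun v hv => by_contra fun hne => hl v hne hv) (fun v hv => by_contra fun hne => hr v hne hv) hspan
  refine Or.inr (Or.inr ⟨a, fun p q => ?_, fun v hv => ?_⟩)
  · obtain ⟨v, hv⟩ := haL (μ p q)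
    exact ⟨v, hcong _ _ _ _ hv.symm⟩
  · refine ((LinearMap.injective_iff_surjective_of_finrank_eq_finrank (hV2.trans hD2.symm)).2 haR) ?_
    rw [map_zero]
    exact Subtype.ext ((Submodule.Quotient.mk_eq_zero _).2 hv)

theorem cube_cover {ι : (Fin 2 → k) →ₗ[k] A} (G : Gen I ι) (hS : Shape2 I ι) :
    ∃ U : Submodule k A, Module.finrank k U ≤ 2 ∧ I ^ 3 ≤ U ⊔ I ^ 4 := by
  rcases hS with ⟨f, α, -, hf⟩ | ⟨f, α, -, hf⟩ | ⟨a, hcov, -⟩
  · refine ⟨LinearMap.range (mulRight k (ι f ^ 2) ∘ₗ ι),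
      (LinearMap.finrank_range_le _).trans (Module.finrank_fin_fun k).le,
      h.cover_right G (h.sq_le_of_products G _ le_sup_right fun p q => ?_) 1⟩
    rw [← sub_add_cancel (ι p * ι q) (α q • (ι p * ι f))]
    refine add_mem (Submodule.mem_sup_right (hf p q))
      (Submodule.mem_sup_left (Submodule.smul_mem _ _ ⟨p, rfl⟩))
  · refine ⟨LinearMap.range (mulLeft k (ι f ^ 2) ∘ₗ ι),
      (LinearMap.finrank_range_le _).trans (Module.finrank_fin_fun k).le,
      h.cover_left G (h.sq_le_of_products G _ le_sup_right fun p q => ?_) 1⟩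
    rw [← sub_add_cancel (ι p * ι q) (α p • (ι f * ι q))]
    refine add_mem (Submodule.mem_sup_right (hf q p))
      (Submodule.mem_sup_left (Submodule.smul_mem _ _ ⟨q, rfl⟩))
  · refine ⟨LinearMap.range (mulLeft k (ι a ^ 2) ∘ₗ ι),
      (LinearMap.finrank_range_le _).trans (Module.finrank_fin_fun k).le,
      h.cover_left G (h.sq_le_of_products G _ le_sup_right fun p q => ?_) 1⟩
    obtain ⟨v, hv⟩ := hcov p q
    rw [← sub_add_cancel (ι p * ι q) (ι a * ι v)]
    exact add_mem (Submodule.mem_sup_right hv) (Submodule.mem_sup_left ⟨v, rfl⟩)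

/-- A functional that is invariant under rotation on words of length four. -/
theorem exists_functional {ι : (Fin 2 → k) →ₗ[k] A} (G : Gen I ι) (ψ : (Fin 2 → k) →ₗ[k] A)
    (hψ : ∀ v, ψ v ∈ I ^ 4) (hinj : ∀ v, ψ v ∈ I ^ 5 → v = 0) (F : (Fin 2 → k) →ₗ[k] k) (hF : F ≠ 0)
    (W : (Fin 2 → k) → (Fin 2 → k) → (Fin 2 → k) → (Fin 2 → k) → (Fin 2 → k))
    (hW : ∀ p q r s, Cong (I ^ 5) (ι p * (ι q * (ι r * ι s))) (ψ (W p q r s)))
    (hcyc : ∀ p q r s, F (W p q r s) = F (W q r s p)) :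
    ∃ Φ : A →ₗ[k] k, (∀ i ∈ I ^ 5, Φ i = 0) ∧ (∃ i ∈ I ^ 4, Φ i ≠ 0) ∧
      ∀ a ∈ I, ∀ b ∈ I ^ 3, Φ (a * b) = Φ (b * a) := by
  obtain ⟨g, hg⟩ := LinearMap.exists_leftInverse_of_injective ((I ^ 5).mkQ ∘ₗ ψ)
    ((Submodule.eq_bot_iff _).2 fun v hv => hinj v ((Submodule.Quotient.mk_eq_zero _).1 hv))
  let Φ : A →ₗ[k] k := F ∘ₗ g ∘ₗ (I ^ 5).mkQ
  have hΦc : ∀ x y, Cong (I ^ 5) x y → Φ x = Φ y := fun x y hxy => by
    show F (g _) = F (g _)
    rw [mkQ_eq_iff.2 hxy]
  have hΦψ : ∀ v, Φ (ψ v) = F v := fun v => congrArg F (LinearMap.congr_fun hg v)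
  refine ⟨Φ, fun i hi => ?_, ?_, fun a ha b hb => ?_⟩
  · show F (g ((I ^ 5).mkQ i)) = 0
    rw [Submodule.mkQ_apply, (Submodule.Quotient.mk_eq_zero _).2 hi, map_zero, map_zero]
  · by_contra hno
    push Not at hno
    exact hF (LinearMap.ext fun v => by rw [← hΦψ, hno _ (hψ v), LinearMap.zero_apply])
  obtain ⟨p, hp⟩ := G.dec a ha
  rw [pow_succ' I 2] at hb
  induction hb using Submodule.mul_induction_on' with
  | mem_mul_mem y hy z hz =>
    obtain ⟨q, hq⟩ := G.dec y hy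
    rw [pow_two] at hz
    induction hz using Submodule.mul_induction_on' with
    | mem_mul_mem u hu v hv =>
      obtain ⟨r, s, hrs⟩ := h.prod_cong G hu hv
      have h2 : ι r * ι s ∈ I ^ 2 := by
        rw [pow_two]; exact Submodule.mul_mem_mul (G.mem r) (G.mem s)
      have cy : Cong (I ^ 4) (y * (u * v)) (ι q * (ι r * ι s)) :=
        (Cong.mul_left hy hrs).trans (by
          rw [Cong, ← sub_mul, show I ^ 4 = I ^ 2 * I ^ 2 by rw [← pow_add]]
          exact Submodule.mul_mem_mul hq h2)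
      have h3 : ι q * (ι r * ι s) ∈ I ^ 3 := by
        rw [pow_succ' I 2]; exact Submodule.mul_mem_mul (G.mem q) h2
      have c1 : Cong (I ^ 5) (a * (y * (u * v))) (ι p * (ι q * (ι r * ι s))) :=
        (Cong.mul_left ha cy).trans (by
          rw [Cong, ← sub_mul, show I ^ 5 = I ^ 2 * I ^ 3 by rw [← pow_add]]
          exact Submodule.mul_mem_mul hp h3)
      have c2 : Cong (I ^ 5) (y * (u * v) * a) (ι q * (ι r * (ι s * ι p))) :=
        (Cong.mul_right ha cy).trans (by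
          rw [Cong, show ι q * (ι r * (ι s * ι p)) = ι q * (ι r * ι s) * ι p by noncomm_ring,
            ← mul_sub, show I ^ 5 = I ^ 3 * I ^ 2 by rw [← pow_add]]
          exact Submodule.mul_mem_mul h3 hp)
      rw [hΦc _ _ c1, hΦc _ _ c2, hΦc _ _ (hW p q r s), hΦc _ _ (hW q r s p), hΦψ, hΦψ]
      exact hcyc p q r s
    | add u _ v _ ihu ihv =>
      rw [mul_add y, mul_add a, add_mul, map_add, map_add, ihu, ihv]
  | add b₁ _ b₂ _ ih1 ih2 => rw [mul_add, add_mul, map_add, map_add, ih1, ih2]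

theorem exists_cyclic {ι : (Fin 2 → k) →ₗ[k] A} (G : Gen I ι) (hS : Shape2 I ι) {m : ℕ}
    (hne : I ^ (m + 5) ≠ ⊥) :
    ∃ Φ : A →ₗ[k] k, (∀ i ∈ I ^ 5, Φ i = 0) ∧ (∃ i ∈ I ^ 4, Φ i ≠ 0) ∧
      ∀ a ∈ I, ∀ b ∈ I ^ 3, Φ (a * b) = Φ (b * a) := by
  by_cases hsmall : ∃ U : Submodule k A, Module.finrank k U ≤ 1 ∧ I ^ 4 ≤ U ⊔ I ^ 5
  · obtain ⟨U, hU, hle⟩ := hsmall
    obtain ⟨u, hu⟩ := exists_span_of_finrank_le hU
    have hc := h.pow_le_cenPart (n := 2) (u := u) (hle.trans (sup_le_sup_right hu _))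
    obtain ⟨i₀, hi₀, hi₀'⟩ := SetLike.not_le_iff_exists.1 (fun hle' : I ^ 4 ≤ I ^ 5 => hne (by
      have e := h.le_succ_eq_bot (n := 3) hle'
      exact le_bot_iff.1 ((h.pow_antitone (n := 4) (by omega) (by omega)).trans e.le)))
    have hne0 : (I ^ 5).mkQ i₀ ≠ 0 := fun e => hi₀' ((Submodule.Quotient.mk_eq_zero _).1 e)
    obtain ⟨f, hf⟩ : ∃ f : Module.Dual k (A ⧸ (I ^ 5 : Submodule k A)), f ((I ^ 5).mkQ i₀) ≠ 0 := by
      by_contra hno
      push Not at hno
      exact hne0 ((Module.forall_dual_apply_eq_zero_iff k _).1 hno)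
    refine ⟨f ∘ₗ (I ^ 5).mkQ, fun i hi => ?_, ⟨i₀, hi₀, hf⟩, fun a ha b hb => ?_⟩
    · rw [LinearMap.comp_apply, Submodule.mkQ_apply, (Submodule.Quotient.mk_eq_zero _).2 hi, map_zero]
    · rw [(hc hb).2 a (h.le ha)]
  push Not at hsmall
  have hinjf : ∀ f : (Fin 2 → k) →ₗ[k] A, I ^ 4 ≤ LinearMap.range f ⊔ I ^ 5 →
      ∀ v, f v ∈ I ^ 5 → v = 0 := by
    intro f hle v hv
    obtain ⟨S, -, hSd, hSc⟩ := exists_lift_submodule f (I ^ 5)
    have h1 := LinearMap.finrank_range_add_finrank_ker ((I ^ 5).mkQ ∘ₗ f)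
    rw [Module.finrank_fin_fun] at h1
    have h2 : 2 ≤ Module.finrank k (LinearMap.range ((I ^ 5).mkQ ∘ₗ f)) := by
      by_contra hlt
      exact hsmall S (by omega) (hle.trans (sup_le (by rintro _ ⟨u, rfl⟩; exact hSc u) le_sup_right))
    have h3 : LinearMap.ker ((I ^ 5).mkQ ∘ₗ f) = ⊥ := Submodule.finrank_eq_zero.1 (by omega)
    exact (Submodule.eq_bot_iff _).1 h3 v ((Submodule.Quotient.mk_eq_zero _).2 hv)
  have hmem4 : ∀ a v, ι a ^ 3 * ι v ∈ I ^ 4 ∧ ι v * ι a ^ 3 ∈ I ^ 4 := fun a v => by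
    constructor
    · rw [pow_succ I 3]; exact Submodule.mul_mem_mul (Submodule.pow_mem_pow I (G.mem a) 3) (G.mem v)
    · rw [pow_succ' I 3]; exact Submodule.mul_mem_mul (G.mem v) (Submodule.pow_mem_pow I (G.mem a) 3)
  rcases hS with ⟨f, α, hαf, hf⟩ | ⟨f, α, hαf, hf⟩ | ⟨a, hcov, hR⟩
  · have hcovf : I ^ 2 ≤ LinearMap.range (mulRight k (ι f) ∘ₗ ι) ⊔ I ^ 3 :=
      h.sq_le_of_products G _ le_sup_right fun p q => by
        rw [← sub_add_cancel (ι p * ι q) (α q • (ι p * ι f))]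
        exact add_mem (Submodule.mem_sup_right (hf p q))
          (Submodule.mem_sup_left (Submodule.smul_mem _ _ ⟨p, rfl⟩))
    refine exists_functional h G (mulRight k (ι f ^ 3) ∘ₗ ι) (fun v => (hmem4 f v).2)
      (hinjf _ (h.cover_right G hcovf 2)) α (fun e => by simp [e] at hαf)
      (fun p q r s => (α q * α r * α s) • p) (fun p q r s => ?_) fun p q r s => ?_
    · have c1 : Cong (I ^ 5) (ι p * (ι q * (ι r * ι s))) (α s • (ι p * (ι q * ι r)) * ι f) := by
        refine (Cong.mul_left (G.mem p) (Cong.mul_left (G.mem q) (hf r s))).trans ?_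
        rw [show ι p * (ι q * (α s • (ι r * ι f))) = α s • (ι p * (ι q * ι r)) * ι f by
          simp only [mul_smul_comm, smul_mul_assoc, mul_assoc]]
        exact Cong.refl _
      have c2 : Cong (I ^ 4) (ι p * (ι q * ι r)) (α r • (ι p * ι q) * ι f) := by
        refine (Cong.mul_left (G.mem p) (hf q r)).trans ?_
        rw [show ι p * (α r • (ι q * ι f)) = α r • (ι p * ι q) * ι f by
          simp only [mul_smul_comm, smul_mul_assoc, mul_assoc]]
        exact Cong.refl _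
      have c3 : Cong (I ^ 4) (ι p * (ι q * ι r)) (α r • (α q • (ι p * ι f)) * ι f) := by
        refine c2.trans ?_
        rw [smul_mul_assoc, smul_mul_assoc, Cong, ← smul_sub]
        exact Submodule.smul_mem _ _ (Cong.mul_right (G.mem f) (hf p q))
      refine c1.trans ?_
      rw [smul_mul_assoc]
      have c4 := Cong.mul_right (G.mem f) c3
      have c5 : Cong (I ^ 5) (α s • (ι p * (ι q * ι r) * ι f))
          (α s • (α r • (α q • (ι p * ι f)) * ι f * ι f)) := by
        rw [Cong, ← smul_sub]; exact Submodule.smul_mem _ _ c4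
      refine c5.trans ?_
      rw [LinearMap.comp_apply, map_smul, LinearMap.mulRight_apply, pow_succ (ι f), pow_two]
      simp only [smul_mul_assoc, smul_smul, mul_assoc, Cong]
      rw [show α s * (α r * α q) = α q * (α r * α s) by ring, sub_self]
      exact zero_mem _
    · simp only [map_smul, smul_eq_mul]; ring
  · have hcovf : I ^ 2 ≤ LinearMap.range (mulLeft k (ι f) ∘ₗ ι) ⊔ I ^ 3 :=
      h.sq_le_of_products G _ le_sup_right fun p q => by
        rw [← sub_add_cancel (ι p * ι q) (α p • (ι f * ι q))]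
        exact add_mem (Submodule.mem_sup_right (hf q p))
          (Submodule.mem_sup_left (Submodule.smul_mem _ _ ⟨q, rfl⟩))
    refine exists_functional h G (mulLeft k (ι f ^ 3) ∘ₗ ι) (fun v => (hmem4 f v).1)
      (hinjf _ (h.cover_left G hcovf 2)) α (fun e => by simp [e] at hαf)
      (fun p q r s => (α p * α q * α r) • s) (fun p q r s => ?_) fun p q r s => ?_
    · have c1 : Cong (I ^ 5) (ι p * ι q * ι r * ι s) (α p • (ι f * (ι q * ι r * ι s))) := by
        refine (Cong.mul_right (G.mem s) (Cong.mul_right (G.mem r) (hf q p))).trans ?_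
        rw [show α p • (ι f * ι q) * ι r * ι s = α p • (ι f * (ι q * ι r * ι s)) by
          simp only [smul_mul_assoc, mul_assoc]]
        exact Cong.refl _
      have c3 : Cong (I ^ 4) (ι q * ι r * ι s) (α q • (ι f * (α r • (ι f * ι s)))) := by
        refine (Cong.mul_right (G.mem s) (hf r q)).trans ?_
        rw [smul_mul_assoc, mul_assoc, Cong, ← smul_sub]
        exact Submodule.smul_mem _ _ (Cong.mul_left (G.mem f) (hf s r))
      have c5 : Cong (I ^ 5) (α p • (ι f * (ι q * ι r * ι s)))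
          (α p • (ι f * (α q • (ι f * (α r • (ι f * ι s)))))) := by
        rw [Cong, ← smul_sub]; exact Submodule.smul_mem _ _ (Cong.mul_left (G.mem f) c3)
      rw [show ι p * (ι q * (ι r * ι s)) = ι p * ι q * ι r * ι s by simp only [mul_assoc]]
      refine (c1.trans c5).trans ?_
      rw [LinearMap.comp_apply, map_smul, LinearMap.mulLeft_apply, pow_succ (ι f), pow_two]
      simp only [mul_smul_comm, smul_smul, mul_assoc, Cong]
      rw [sub_self]
      exact zero_mem _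
    · simp only [map_smul, smul_eq_mul]; ring
  · have hcova : I ^ 2 ≤ LinearMap.range (mulLeft k (ι a) ∘ₗ ι) ⊔ I ^ 3 :=
      h.sq_le_of_products G _ le_sup_right fun p q => by
        obtain ⟨v, hv⟩ := hcov p q
        rw [← sub_add_cancel (ι p * ι q) (ι a * ι v)]
        exact add_mem (Submodule.mem_sup_right hv) (Submodule.mem_sup_left ⟨v, rfl⟩)
    have hinj3 : ∀ v, ι a ^ 3 * ι v ∈ I ^ 5 → v = 0 := hinjf _ (h.cover_left G hcova 2)
    have hinj2 : ∀ v, ι a * (ι a * ι v) ∈ I ^ 4 → v = 0 := fun v hv => hinj3 v (by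
      rw [pow_succ' (ι a), pow_two, mul_assoc, mul_assoc, pow_succ' I 4]
      exact Submodule.mul_mem_mul (G.mem a) hv)
    have hinj1 : ∀ v, ι a * ι v ∈ I ^ 3 → v = 0 := fun v hv => hinj2 v (by
      rw [pow_succ' I 3]; exact Submodule.mul_mem_mul (G.mem a) hv)
    let ψ : (Fin 2 → k) →ₗ[k] A ⧸ (I ^ 3 : Submodule k A) := (I ^ 3).mkQ ∘ₗ mulLeft k (ι a) ∘ₗ ι
    obtain ⟨g, hg⟩ := LinearMap.exists_leftInverse_of_injective ψ
      ((Submodule.eq_bot_iff _).2 fun v hv => hinj1 v ((Submodule.Quotient.mk_eq_zero _).1 hv))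
    let mm : (Fin 2 → k) →ₗ[k] (Fin 2 → k) →ₗ[k] (Fin 2 → k) := (mulMap ι ι (I ^ 3)).compr₂ g
    have hcm : ∀ p q, Cong (I ^ 3) (ι p * ι q) (ι a * ι (mm p q)) := fun p q => by
      obtain ⟨v, hv⟩ := hcov p q
      have e : mm p q = v := by
        show g ((I ^ 3).mkQ (ι p * ι q)) = v
        rw [mkQ_eq_iff.2 hv]
        exact LinearMap.congr_fun hg v
      rw [e]; exact hv
    let σ₀ : (Fin 2 → k) →ₗ[k] (Fin 2 → k) := mm.flip a
    have hσinj : Function.Injective σ₀ := by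
      rw [← LinearMap.ker_eq_bot, Submodule.eq_bot_iff]
      intro v hv
      refine hR v ?_
      have h1 : Cong (I ^ 3) (ι v * ι a) (ι a * ι (σ₀ v)) := hcm v a
      rwa [show σ₀ v = 0 from hv, map_zero, mul_zero, Cong, sub_zero] at h1
    let σ : (Fin 2 → k) ≃ₗ[k] (Fin 2 → k) := LinearEquiv.ofInjectiveEndo σ₀ hσinj
    have hσ : ∀ p, σ p = mm p a := fun _ => rfl
    have huniq : ∀ u u', Cong (I ^ 4) (ι a * (ι a * ι u)) (ι a * (ι a * ι u')) → u = u' :=
      fun u u' hc => sub_eq_zero.1 (hinj2 _ (by rwa [map_sub, mul_sub, mul_sub]))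
    have hone : ∀ q, mm a q = q := fun q =>
      (sub_eq_zero.1 (hinj1 _ (by rw [map_sub, mul_sub]; exact hcm a q))).symm
    have w3 : ∀ p q r, Cong (I ^ 4) (ι p * (ι q * ι r)) (ι a * (ι a * ι (mm (σ p) (mm q r)))) := by
      intro p q r
      refine (Cong.mul_left (G.mem p) (hcm q r)).trans ?_
      rw [← mul_assoc]
      refine (Cong.mul_right (G.mem _) (hcm p a)).trans ?_
      rw [mul_assoc, ← hσ]
      exact Cong.mul_left (G.mem a) (hcm (σ p) (mm q r))
    have hassoc : ∀ p q r, mm (mm p q) r = mm (σ p) (mm q r) := fun p q r => by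
      refine huniq _ _ (Cong.trans ?_ (w3 p q r))
      rw [← mul_assoc (ι p)]
      refine ((Cong.mul_right (G.mem r) (hcm p q)).trans ?_).symm
      rw [mul_assoc]
      exact Cong.mul_left (G.mem a) (hcm _ _)
    let S : Twisted k (Fin 2 → k) :=
      { m := mm
        σ := σ
        a := a
        fix := by rw [hσ, hone]
        one_left := hone
        one_right := fun p => (hσ p).symm
        map := fun p q => by rw [hσ (mm p q), hassoc, ← hσ q]
        assoc := hassoc }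
    have ha0 : a ≠ 0 := fun h0 => by
      have h1 : Pi.single (M := fun _ : Fin 2 => k) 0 1 = 0 := hinj1 _ (by
        rw [h0, map_zero, zero_mul]; exact zero_mem _)
      simp at h1
    obtain ⟨F, hF, hFc⟩ := S.exists_cyclic_four (Module.finrank_fin_fun k).le ha0
    refine exists_functional h G (mulLeft k (ι a ^ 3) ∘ₗ ι) (fun v => (hmem4 a v).1) hinj3 F hF
      (fun p q r s => mm (σ (σ p)) (mm (σ q) (mm r s))) (fun p q r s => ?_) hFc
    refine (Cong.mul_left (G.mem p) (w3 q r s)).trans ?_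
    have hpaa : Cong (I ^ 4) (ι p * ι a * ι a) (ι a * (ι a * ι (σ (σ p)))) := by
      refine (Cong.mul_right (G.mem a) (hcm p a)).trans ?_
      rw [mul_assoc, ← hσ]
      exact Cong.mul_left (G.mem a) (hcm (σ p) a)
    rw [← mul_assoc (ι p), ← mul_assoc (ι p * ι a)]
    refine (Cong.mul_right (G.mem _) hpaa).trans ?_
    rw [LinearMap.comp_apply, LinearMap.mulLeft_apply, pow_succ (ι a), pow_two, mul_assoc, mul_assoc,
      mul_assoc, mul_assoc]
    exact Cong.mul_left (G.mem a) (Cong.mul_left (G.mem a) (hcm _ _))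

end SymLocal

end CfsgLib.Blocks.SymLocalCorner
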